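import Mathlib

/-!
An explicit model of the wreath product of the dihedral group of order eight with a group of order two,
and the facts about it that are checked by enumeration.
-/

set_option autoImplicit false
set_option linter.style.haveILetI false
set_option maxRecDepth 100000

namespace CfsgLib.TwoGroups85

/-- `D₈ ≀ C₂` -/
structure WreathDih where
  l : DihedralGroup 4
  r : DihedralGroup 4
  s : Bool
deriving DecidableEq

namespace WreathDih

/-- As a triple. -/
def equivTriple : WreathDih ≃ DihedralGroup 4 × DihedralGroup 4 × Bool where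
  toFun w := (w.l, w.r, w.s)
  invFun t := ⟨t.1, t.2.1, t.2.2⟩
  left_inv _ := rfl
  right_inv _ := rfl

instance instFintype : Fintype WreathDih := Fintype.ofEquiv _ equivTriple.symm

instance instMul : Mul WreathDih :=
  ⟨fun u v => ⟨u.l * (bif u.s then v.r else v.l), u.r * (bif u.s then v.l else v.r), xor u.s v.s⟩⟩

instance instOne : One WreathDih := ⟨⟨1, 1, false⟩⟩

instance instInv : Inv WreathDih :=
  ⟨fun u => ⟨(bif u.s then u.r else u.l)⁻¹, (bif u.s then u.l else u.r)⁻¹, u.s⟩⟩

theorem mul_def (u v : WreathDih) : u * v =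
    ⟨u.l * (bif u.s then v.r else v.l), u.r * (bif u.s then v.l else v.r), xor u.s v.s⟩ := rfl

theorem one_def : (1 : WreathDih) = ⟨1, 1, false⟩ := rfl

theorem inv_def (u : WreathDih) : u⁻¹ =
    ⟨(bif u.s then u.r else u.l)⁻¹, (bif u.s then u.l else u.r)⁻¹, u.s⟩ := rfl

instance instGroup : Group WreathDih where
  mul_assoc := by
    rintro ⟨a, b, i⟩ ⟨c, d, j⟩ ⟨e, f, k⟩
    cases i <;> cases j <;> simp [mul_def, mul_assoc]
  one_mul := by rintro ⟨a, b, i⟩; simp [mul_def, one_def]
  mul_one := by rintro ⟨a, b, i⟩; cases i <;> simp [mul_def, one_def]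
  inv_mul_cancel := by rintro ⟨a, b, i⟩; cases i <;> simp [mul_def, one_def, inv_def]

theorem card_eq : Nat.card WreathDih = 128 := by
  rw [Nat.card_congr equivTriple]
  simp [DihedralGroup.card]

/-- The permutation of `ZMod 4` given by a symmetry of the square. -/
def sym : DihedralGroup 4 → Equiv.Perm (ZMod 4)
  | .r i => Equiv.addRight i
  | .sr i => (Equiv.addRight i).trans (Equiv.neg _)

theorem sym_apply_r (i x : ZMod 4) : sym (.r i) x = x + i := rfl

theorem sym_apply_sr (i x : ZMod 4) : sym (.sr i) x = -(x + i) := rfl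

theorem sym_mul (u v : DihedralGroup 4) : sym (u * v) = sym u * sym v := by
  rcases u with i | i <;> rcases v with j | j <;> ext x <;>
    simp [sym_apply_r, sym_apply_sr] <;> ring

theorem sym_injective : Function.Injective sym := by decide +kernel

/-- The wreath product as permutations of eight points. -/
def perm (w : WreathDih) : Equiv.Perm (Bool × ZMod 4) :=
  (Equiv.prodCongrRight fun i => bif i then sym w.r else sym w.l) *
    (bif w.s then Equiv.prodCongrLeft (fun _ => Equiv.swap true false) else 1)

theorem perm_mul (u v : WreathDih) : perm (u * v) = perm u * perm v := by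
  obtain ⟨a, b, i⟩ := u
  obtain ⟨c, d, j⟩ := v
  ext ⟨k, x⟩ <;> cases i <;> cases j <;> cases k <;> simp [perm, mul_def, sym_mul]

/-- The wreath product as a group of permutations. -/
def permHom : WreathDih →* Equiv.Perm (Bool × ZMod 4) := MonoidHom.mk' perm perm_mul

theorem permHom_injective : Function.Injective permHom := by
  rw [injective_iff_map_eq_one]
  decide +kernel

/-- The model is a Sylow `2`-subgroup of the symmetric group of degree eight. -/
theorem nonempty_equiv_sylow (T : Sylow 2 (Equiv.Perm (Fin 8))) :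
    Nonempty (WreathDih ≃* ↥(T : Subgroup (Equiv.Perm (Fin 8)))) := by
  haveI : Fact (Nat.Prime 2) := ⟨Nat.prime_two⟩
  let e : Bool × ZMod 4 ≃ Fin 8 := (Fintype.equivFinOfCardEq (by simp))
  let f : WreathDih →* Equiv.Perm (Fin 8) := e.permCongrHom.toMonoidHom.comp permHom
  have hf : Function.Injective f := e.permCongrHom.injective.comp permHom_injective
  have hc : Nat.card f.range = 128 := by
    rw [← Nat.card_congr (MonoidHom.ofInjective hf).toEquiv, card_eq]
  let T' : Sylow 2 (Equiv.Perm (Fin 8)) := Sylow.ofCard f.range (by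
    rw [hc, Nat.card_perm, Nat.card_eq_fintype_card, Fintype.card_fin]
    rw [show Nat.factorial 8 = 2 ^ 7 * 315 by rfl,
      Nat.factorization_mul (by norm_num) (by norm_num), Finsupp.add_apply,
      Nat.Prime.factorization_pow Nat.prime_two, Finsupp.single_eq_same,
      Nat.factorization_eq_zero_of_not_dvd (by norm_num), add_zero]
    rfl)
  exact ⟨(MonoidHom.ofInjective hf).trans (T'.equiv T)⟩

/-- `(1,1)τ` -/
def tau : WreathDih := ⟨1, 1, true⟩
/-- A reflection in the left factor. -/
def sl : WreathDih := ⟨.sr 0, 1, false⟩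
/-- A reflection in the left factor, of the other class. -/
def tl : WreathDih := ⟨.sr 1, 1, false⟩
/-- A reflection in the right factor. -/
def sr' : WreathDih := ⟨1, .sr 0, false⟩
/-- A reflection in the right factor, of the other class. -/
def tr' : WreathDih := ⟨1, .sr 1, false⟩
/-- The central involution of the left factor. -/
def zl : WreathDih := ⟨.r 2, 1, false⟩
/-- The central involution of the right factor. -/
def zr : WreathDih := ⟨1, .r 2, false⟩
/-- The central involution. -/
def zc : WreathDih := ⟨.r 2, .r 2, false⟩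

/-- The centre of the base. -/
abbrev InZ (w : WreathDih) : Prop := w = 1 ∨ w = zl ∨ w = zr ∨ w = zc

/-- The four classes of reflections of the base, modulo its centre. -/
abbrev cls (i : Fin 4) : WreathDih := ![sl, sr', tl, tr'] i

theorem center_cases : ∀ w : WreathDih, (∀ v, v * w = w * v) → w = 1 ∨ w = zc := by decide +kernel

theorem zc_central : ∀ v : WreathDih, v * zc = zc * v := by decide +kernel

theorem center_base : ∀ w : WreathDih, w.s = false → sl * w = w * sl → tl * w = w * tl →
    sr' * w = w * sr' → tr' * w = w * tr' → InZ w := by decide +kernel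

theorem inZ_base : ∀ w : WreathDih, InZ w → w.s = false := by decide +kernel

theorem inZ_mul : ∀ u : WreathDih, InZ u → ∀ v, InZ v → InZ (u * v) := by decide +kernel

theorem inZ_inv : ∀ u : WreathDih, InZ u → InZ u⁻¹ := by decide +kernel

theorem inZ_conj : ∀ u : WreathDih, InZ u → ∀ v, InZ (v * u * v⁻¹) := by decide +kernel

theorem inZ_comm : ∀ u : WreathDih, InZ u → ∀ v, v.s = false → v * u = u * v := by decide +kernel

theorem inZ_sq : ∀ u : WreathDih, InZ u → u * u = 1 := by decide +kernel

theorem base_sq : ∀ u : WreathDih, u.s = false → InZ (u * u) := by decide +kernel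

theorem zl_outer : ∀ u : WreathDih, u.s = true → u * zl * u⁻¹ = zr := by decide +kernel

/-- Number of elements commuting with `w`. -/
def centCard (w : WreathDih) : ℕ := (Finset.univ.filter fun v => v * w = w * v).card

theorem centCard_base : ∀ w : WreathDih, 32 ≤ centCard w → w.s = false := by decide +kernel

theorem centCard_factor : ∀ a : DihedralGroup 4,
    32 ≤ centCard ⟨a, 1, false⟩ ∧ 32 ≤ centCard ⟨1, a, false⟩ := by decide +kernel

theorem base_split : ∀ w : WreathDih, w.s = false →
    w = ⟨w.l, 1, false⟩ * ⟨1, w.r, false⟩ := by decide +kernel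

theorem base_words : ∀ w : WreathDih, w.s = false → ∃ i : Fin 2, ∃ j : Fin 4, ∃ k : Fin 2,
    ∃ l : Fin 4, w = sl ^ (i : ℕ) * (sl * tl) ^ (j : ℕ) * sr' ^ (k : ℕ) * (sr' * tr') ^ (l : ℕ) := by
  decide +kernel

theorem cls_cases : ∀ w : WreathDih, w.s = false → w * w = 1 →
    (∀ v : WreathDih, v.s = false → v * w * v⁻¹ * w⁻¹ = 1 ∨ v * w * v⁻¹ * w⁻¹ = zl) ∨
      (∀ v : WreathDih, v.s = false → v * w * v⁻¹ * w⁻¹ = 1 ∨ v * w * v⁻¹ * w⁻¹ = zr) →
    InZ w ∨ ∃ i, InZ (w * (cls i)⁻¹) := by decide +kernel

theorem sl_comm : ∀ v : WreathDih, v.s = false →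
    v * sl * v⁻¹ * sl⁻¹ = 1 ∨ v * sl * v⁻¹ * sl⁻¹ = zl := by decide +kernel

theorem zl_eq : tl * sl * tl⁻¹ * sl⁻¹ = zl := by decide +kernel

theorem trivial_images : ∀ a : WreathDih, InZ (a * sl⁻¹) → ∀ u, u.s = false → u * u = 1 →
    a * u ≠ u * a → u * (tau * a * tau) = (tau * a * tau) * u →
    u * (tau * u * tau) = (tau * u * tau) * u →
    InZ (u * tl⁻¹) ∧ u * a * u⁻¹ * a⁻¹ = zl := by decide +kernel

theorem tau_conj : tau * sl * tau = sr' ∧ tau * tl * tau = tr' := by decide +kernel

theorem outer_conj : ∀ v : WreathDih, v.s = true → v * v = 1 → ∀ a, InZ (a * sl⁻¹) → ∀ u,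
    InZ (u * tl⁻¹) → InZ (v * a * v * sr'⁻¹) ∧ InZ (v * u * v * tr'⁻¹) := by decide +kernel

theorem outer_relations : ∀ v : WreathDih, v.s = true → v * v = 1 → ∀ a, InZ (a * sl⁻¹) → ∀ u,
    u.s = false → (u * (v * a * v) = (v * a * v) * u ↔ u * (tau * a * tau) = (tau * a * tau) * u) ∧
      (u * (v * u * v) = (v * u * v) * u ↔ u * (tau * u * tau) = (tau * u * tau) * u) := by
  decide +kernel

theorem fours : ∀ v : WreathDih, v * v = 1 →
    (∀ g : WreathDih, v * (g * v * g⁻¹) = g * v * g⁻¹ * v) →
    v.s = false ∧ ((v * sl = sl * v ∧ v * sr' = sr' * v) ∨ (v * tl = tl * v ∧ v * tr' = tr' * v)) := by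
  decide +kernel

/-- The elements of the first elementary abelian normal subgroup of order sixteen. -/
abbrev InL (v : WreathDih) : Prop := v.s = false ∧ v * v = 1 ∧ v * sl = sl * v ∧ v * sr' = sr' * v

/-- The elements of the second elementary abelian normal subgroup of order sixteen. -/
abbrev InR (v : WreathDih) : Prop := v.s = false ∧ v * v = 1 ∧ v * tl = tl * v ∧ v * tr' = tr' * v

theorem card_inL : (Finset.univ.filter fun v : WreathDih => InL v).card = 16 := by decide +kernel

theorem card_inR : (Finset.univ.filter fun v : WreathDih => InR v).card = 16 := by decide +kernel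

theorem sl_inL : InL sl := by decide +kernel

theorem sl_not_inR : ¬ InR sl := by decide +kernel

theorem t_class : ∀ a : WreathDih, InZ (a * tl⁻¹) ∨ InZ (a * tr'⁻¹) →
    InR a ∧ ¬ InL a ∧
      ∀ v : WreathDih, v.s = true → v * v = 1 →
        InZ (v * a * v * tl⁻¹) ∨ InZ (v * a * v * tr'⁻¹) := by decide +kernel

theorem base_card : (Finset.univ.filter fun v : WreathDih => v.s = false).card = 64 := by
  decide +kernel

theorem inZ_card : (Finset.univ.filter fun v : WreathDih => InZ v).card = 4 := by decide +kernel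

theorem outer_involutions :
    (Finset.univ.filter fun v : WreathDih => v.s = true ∧ v * v = 1).card = 8 := by decide +kernel

theorem centralizes_outer : ∀ g : WreathDih,
    (∀ v : WreathDih, v.s = true → v * v = 1 → g * v = v * g) → g = 1 ∨ g = zc := by decide +kernel

theorem sigma_sl : (sl * sr' * tau).s = true ∧ sl * sr' * tau * (sl * sr' * tau) = 1 := by
  decide +kernel

theorem diag_not_fixed : ∀ a : WreathDih, InZ (a * tl⁻¹) ∨ InZ (a * tr'⁻¹) → ∀ b,
    InZ (b * tl⁻¹) ∨ InZ (b * tr'⁻¹) → a * b ≠ sl * sr' := by decide +kernel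

end WreathDih

end CfsgLib.TwoGroups85
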