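import Mathlib
import Cfsg.Agent.Lib.PGroup.MaximalClass
import Cfsg.Agent.Lib.TwoGroups.Semidihedral

/-!
# 2-groups of maximal class are dihedral, semidihedral or generalized quaternion
-/

namespace CfsgLib.TwoGroups85

/-- The trichotomy dihedral / semidihedral / generalized quaternion. -/
def IsDSQ (S : Type*) [Group S] : Prop :=
  (∃ k : ℕ, Nonempty (S ≃* DihedralGroup (2 ^ (k + 2)))) ∨
    (∃ k : ℕ, Nat.card S = 2 ^ (k + 4) ∧ ∃ a b : S, orderOf a = 2 ^ (k + 3) ∧ orderOf b = 2 ∧
      b * a * b⁻¹ = a ^ (2 ^ (k + 2) - 1)) ∨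
    (∃ k : ℕ, Nonempty (S ≃* QuaternionGroup (2 ^ (k + 1))))

open CfsgLib.MaxClass Subgroup

theorem isDSQ_of_maximalClass {S : Type*} [Group S] [Finite S] {n : ℕ} (hn : 3 ≤ n)
    (hS : Nat.card S = 2 ^ n) (hc : Group.nilpotencyClass S = n - 1) : IsDSQ S := by
  haveI := Fact.mk Nat.prime_two
  obtain ⟨a, t, -, hta, ha, hZa, ht2, hinv⟩ := exists_generators hn hS hc
  obtain ⟨m, rfl⟩ : ∃ m, n = m + 3 := ⟨n - 3, by omega⟩
  rw [show m + 3 - 1 = m + 2 by omega] at ha
  obtain ⟨z, hz⟩ : ∃ z, z = a ^ 2 ^ (m + 1) := ⟨_, rfl⟩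
  have hzo : orderOf z = 2 := by
    rw [hz, orderOf_pow_of_dvd (by positivity) (ha ▸ pow_dvd_pow 2 (by omega)), ha,
      Nat.pow_div (by omega) two_pos, show m + 2 - (m + 1) = 1 by omega, pow_one]
  have hZc : Nat.card (center S) = 2 := (center_of_class hS hn hc).1
  have hzz : z * z = 1 := by rw [← pow_two, ← hzo, pow_orderOf_eq_one]
  have hZ : ∀ w ∈ center S, w = 1 ∨ w = z := by
    intro w hw
    have h2 : w ^ 2 = 1 := by
      have h := pow_card_eq_one' (G := center S) (x := ⟨w, hw⟩)
      rw [hZc] at h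
      simpa using congrArg Subtype.val h
    obtain ⟨i, rfl⟩ := mem_zpowers_iff.mp (hZa hw)
    rw [← zpow_natCast, ← zpow_mul, ← orderOf_dvd_iff_zpow_eq_one, ha] at h2
    obtain ⟨c, hc'⟩ : (2 : ℤ) ^ (m + 1) ∣ i := by
      push_cast at h2
      rw [pow_succ] at h2
      exact Int.dvd_of_mul_dvd_mul_right two_ne_zero h2
    have hai : a ^ i = z ^ c := by
      rw [hc', hz, ← zpow_natCast, ← zpow_mul]
      push_cast; rfl
    rw [hai]
    rcases Int.even_or_odd c with ⟨d, rfl⟩ | ⟨d, rfl⟩
    · left; rw [zpow_add, ← (Commute.refl z).mul_zpow, hzz, one_zpow]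
    · right; rw [zpow_add, zpow_mul, zpow_two, hzz, one_zpow, one_mul, zpow_one]
  have hconj : t * a * t⁻¹ = a⁻¹ ∨ t * a * t⁻¹ = z * a⁻¹ := by
    rcases hZ _ hinv with h | h
    · exact Or.inl (eq_inv_of_mul_eq_one_left h)
    · exact Or.inr (eq_mul_inv_of_mul_eq h)
  have htt : t * t = 1 ∨ t * t = z := by rw [← pow_two]; exact hZ _ ht2
  have hzaa : z * a⁻¹ = a ^ (2 ^ (m + 1) - 1) := by
    rw [hz, pow_sub a (Nat.one_le_two_pow), pow_one]
  rcases hconj with hA | hB
  · rcases htt with h1 | h2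
    · left
      refine ⟨m, ?_⟩
      have hu : a ^ 2 ^ (m + 2) = 1 := by rw [← ha]; exact pow_orderOf_eq_one a
      haveI : NeZero (2 ^ (m + 2)) := ⟨by positivity⟩
      let f := CfsgLib.TwoGroups.SD.dihedralHom (m := 2 ^ (m + 2)) a t hu h1 hA
      have hf : Function.Injective f := CfsgLib.TwoGroups.SD.dihedralHom_injective a t hu h1 hA ha hta
      refine ⟨(MulEquiv.ofBijective f ((Nat.bijective_iff_injective_and_card _).2 ⟨hf, ?_⟩)).symm⟩
      rw [DihedralGroup.nat_card, hS, pow_succ' 2 (m + 2)]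
    · right; right
      refine ⟨m, ?_⟩
      have hm2 : 2 * 2 ^ (m + 1) = 2 ^ (m + 2) := (pow_succ' 2 (m + 1)).symm
      have hu : a ^ (2 * 2 ^ (m + 1)) = 1 := by rw [hm2, ← ha]; exact pow_orderOf_eq_one a
      have hv : t * t = a ^ 2 ^ (m + 1) := by rw [h2, hz]
      haveI : NeZero (2 ^ (m + 1)) := ⟨by positivity⟩
      let f := CfsgLib.TwoGroups.SD.quaternionHom (m := 2 ^ (m + 1)) a t hu hv hA
      have hf : Function.Injective f :=
        CfsgLib.TwoGroups.SD.quaternionHom_injective a t hu hv hA (by rw [hm2, ha]) hta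
      refine ⟨(MulEquiv.ofBijective f ((Nat.bijective_iff_injective_and_card _).2 ⟨hf, ?_⟩)).symm⟩
      rw [Nat.card_eq_fintype_card, QuaternionGroup.card, hS]
      ring
  · rcases Nat.eq_zero_or_pos m with rfl | hm
    · exfalso
      refine not_isMulCommutative_of_class hS hn hc ?_
      have hcomm : t * a * t⁻¹ = a := by
        rw [hB, hzaa]; norm_num
      have hidx : (zpowers a).index = 2 := by
        have h := (zpowers a).card_mul_index
        rw [Nat.card_zpowers, ha, hS] at h
        norm_num at h ⊢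
        omega
      have hct : ∀ x ∈ zpowers a, Commute x t := by
        intro x hx
        obtain ⟨i, rfl⟩ := mem_zpowers_iff.mp hx
        exact ((Commute.zpow_right (mul_inv_eq_iff_eq_mul.mp hcomm) i) : Commute t (a ^ i)).symm
      have hdec : ∀ x : S, x ∈ zpowers a ∨ x * t⁻¹ ∈ zpowers a := fun x => by
        by_cases hx : x ∈ zpowers a
        · exact Or.inl hx
        · right; rw [mul_mem_iff_of_index_two hidx, inv_mem_iff]; simp [hx, hta]
      have hxt : ∀ x : S, Commute x t := fun x => by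
        rcases hdec x with h | h
        · exact hct x h
        · simpa using (hct _ h).mul_left (Commute.refl t)
      have hxa : ∀ x : S, Commute x a := fun x => by
        have hat := hct a (mem_zpowers a)
        rcases hdec x with h | h
        · obtain ⟨i, rfl⟩ := mem_zpowers_iff.mp h; exact (Commute.refl a).zpow_left i
        · obtain ⟨i, hi⟩ := mem_zpowers_iff.mp h
          have := ((Commute.refl a).zpow_left i).mul_left hat.symm
          rw [hi] at this
          simpa using this
      refine ⟨⟨fun x y => ?_⟩⟩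
      rcases hdec y with h | h
      · obtain ⟨i, rfl⟩ := mem_zpowers_iff.mp h; exact ((hxa x).zpow_right i).eq
      · obtain ⟨i, hi⟩ := mem_zpowers_iff.mp h
        have := ((hxa x).zpow_right i).mul_right (hxt x)
        rw [hi] at this
        simpa using this.eq
    · obtain ⟨k, rfl⟩ : ∃ k, m = k + 1 := ⟨m - 1, by omega⟩
      right; left
      rw [hzaa] at hB
      rcases htt with h1 | h2
      · exact ⟨k, hS, a, t, ha, orderOf_eq_prime (by rw [pow_two]; exact h1)
          (fun h => hta (h ▸ one_mem _)), hB⟩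
      · refine ⟨k, hS, a, t * a, ha, orderOf_eq_prime ?_ ?_, ?_⟩
        · have hza : Commute z a := by rw [hz]; exact (Commute.refl a).pow_left _
          calc (t * a) ^ 2 = (t * a * t⁻¹) * (t * t) * a := by rw [pow_two]; group
            _ = (z * a⁻¹) * z * a := by rw [h2, hB, ← hzaa]
            _ = (z * z) * (a⁻¹ * a) := by rw [mul_assoc z a⁻¹ z, ← hza.inv_right.eq]; group
            _ = 1 := by rw [hzz, inv_mul_cancel, one_mul]
        · intro h
          exact hta (eq_inv_of_mul_eq_one_left h ▸ inv_mem (mem_zpowers a))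
        · rw [mul_inv_rev, show t * a * a * (a⁻¹ * t⁻¹) = t * a * t⁻¹ by group]
          exact hB

end CfsgLib.TwoGroups85
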