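import Mathlib
import Cfsg.Agent.Lib.PGroup.Frattini
import Cfsg.Prelude.Def_CaseTheorems
import Cfsg.Prelude.Def_OddOrderLocal

/-!
Finite 2-groups of sectional rank at most two are metacyclic.
-/

set_option autoImplicit false
set_option linter.style.haveILetI false
set_option linter.unusedSectionVars false

open scoped commutatorElement

namespace CfsgLib.TwoGroups85

universe u

section Basic

variable {S : Type u} [Group S] [Finite S]

/-- A section of exponent two has order at most four. -/
theorem index_le_four (hr : Cfsg.SectionalPRankLE 2 2 S) (H : Subgroup S) (N : Subgroup H)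
    [N.Normal] (hsq : ∀ x : H, x ^ 2 ∈ N) : N.index ≤ 4 := by
  have h2 : ∀ y : H ⧸ N, y ^ 2 = 1 := fun y => by
    obtain ⟨x, rfl⟩ := QuotientGroup.mk'_surjective N y
    rw [← map_pow]
    exact (QuotientGroup.eq_one_iff _).2 (hsq x)
  have hcomm : ∀ a b : H ⧸ N, a * b = b * a := fun a b => by
    have ha := inv_eq_of_mul_eq_one_right ((pow_two a).symm.trans (h2 a))
    have hb := inv_eq_of_mul_eq_one_right ((pow_two b).symm.trans (h2 b))
    have hab := inv_eq_of_mul_eq_one_right ((pow_two (a * b)).symm.trans (h2 _))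
    rw [mul_inv_rev, ha, hb] at hab
    exact hab.symm
  have h := hr H N ⊤ ⟨⟨fun a b => Subtype.ext (hcomm _ _)⟩⟩ fun a _ => h2 a
  rwa [Subgroup.card_top, ← Subgroup.index_eq_card] at h

theorem two_mul_card_le {H K : Subgroup S} (h : H < K) : 2 * Nat.card H ≤ Nat.card K := by
  obtain ⟨k, hk⟩ := Subgroup.card_dvd_of_le h.le
  have hlt : Nat.card H < Nat.card K := by
    refine lt_of_le_of_ne (Subgroup.card_le_of_le h.le) fun e => h.ne ?_
    exact Subgroup.eq_of_le_of_card_ge h.le e.ge
  rw [hk] at hlt ⊢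
  rcases Nat.lt_or_ge k 2 with hk2 | hk2
  · interval_cases k <;> simp at hlt
  · rw [mul_comm 2]
    exact Nat.mul_le_mul_left _ hk2

theorem mem_center_of_closure {a b x : S} (hgen : Subgroup.closure ({a, b} : Set S) = ⊤)
    (ha : a * x = x * a) (hb : b * x = x * b) : x ∈ Subgroup.center S := by
  refine Subgroup.mem_center_iff.2 fun y => ?_
  have hle : Subgroup.closure ({a, b} : Set S) ≤ Subgroup.centralizer ({x} : Set S) := by
    rw [Subgroup.closure_le]
    rintro g (rfl | rfl)
    · exact Subgroup.mem_centralizer_singleton_iff.2 ha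
    · exact Subgroup.mem_centralizer_singleton_iff.2 hb
  exact Subgroup.mem_centralizer_singleton_iff.1 (hle (hgen ▸ Subgroup.mem_top y))

theorem zpowers_cases {z w : S} (hz : z ^ 2 = 1) (hw : w ∈ Subgroup.zpowers z) : w = 1 ∨ w = z := by
  obtain ⟨k, rfl⟩ := hw
  have h2 : z ^ (2 : ℤ) = 1 := by exact_mod_cast hz
  rcases Int.even_or_odd k with ⟨m, rfl⟩ | ⟨m, rfl⟩
  · left; simp only
    rw [← two_mul, zpow_mul, h2, one_zpow]
  · right; simp only
    rw [zpow_add, zpow_mul, h2, one_zpow, one_mul, zpow_one]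

theorem closure_pair_cases {x y w : S} (hx : x ^ 2 = 1) (hy : y ^ 2 = 1) (hxy : x * y = y * x)
    (hw : w ∈ Subgroup.closure ({x, y} : Set S)) : w = 1 ∨ w = x ∨ w = y ∨ w = x * y := by
  rw [pow_two] at hx hy
  have hx' : ∀ g, x * (x * g) = g := fun g => by rw [← mul_assoc, hx, one_mul]
  have hy' : ∀ g, y * (y * g) = g := fun g => by rw [← mul_assoc, hy, one_mul]
  have hyx : y * x = x * y := hxy.symm
  have hyx' : ∀ g, y * (x * g) = x * (y * g) := fun g => by rw [← mul_assoc, hyx, mul_assoc]
  induction hw using Subgroup.closure_induction with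
  | mem g hg => rcases hg with rfl | rfl <;> simp
  | one => simp
  | mul g h hg hh ig ih =>
    rcases ig with rfl | rfl | rfl | rfl <;> rcases ih with rfl | rfl | rfl | rfl <;>
      simp [mul_assoc, hx, hy, hx', hy', hyx, hyx']
  | inv g hg ig =>
    have hxi : x⁻¹ = x := inv_eq_of_mul_eq_one_right hx
    have hyi : y⁻¹ = y := inv_eq_of_mul_eq_one_right hy
    rcases ig with rfl | rfl | rfl | rfl <;> simp [mul_inv_rev, hxi, hyi, hyx]

/-- There is no elementary abelian subgroup of order eight, in the form used below. -/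
theorem mem_pair_of_involutions (hr : Cfsg.SectionalPRankLE 2 2 S) {x y w : S} (hxy : x * y = y * x)
    (hxw : x * w = w * x) (hyw : y * w = w * y) (hx : x ^ 2 = 1) (hy : y ^ 2 = 1) (hw : w ^ 2 = 1)
    (hx1 : x ≠ 1) (hyx : y ∉ Subgroup.closure ({x} : Set S)) :
    w ∈ Subgroup.closure ({x, y} : Set S) := by
  by_contra hwxy
  let E := Subgroup.closure ({x, y, w} : Set S)
  have hc : ∀ g ∈ ({x, y, w} : Set S), ∀ h ∈ ({x, y, w} : Set S), g * h = h * g := by
    rintro g (rfl | rfl | rfl) h (rfl | rfl | rfl) <;>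
      first | rfl | assumption | exact hxy.symm | exact hxw.symm | exact hyw.symm
  have hcE : ∀ g ∈ E, ∀ h ∈ E, g * h = h * g := fun g hg h hh => by
    have : IsMulCommutative E := Subgroup.isMulCommutative_closure hc
    exact congrArg Subtype.val (mul_comm' (⟨g, hg⟩ : E) ⟨h, hh⟩)
  have hsq : ∀ g : E, g ^ 2 ∈ (⊥ : Subgroup E) := by
    rintro ⟨g, hg⟩
    rw [Subgroup.mem_bot]
    apply Subtype.ext
    show g ^ 2 = 1
    induction hg using Subgroup.closure_induction with
    | mem g hg => rcases hg with rfl | rfl | rfl <;> assumption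
    | one => simp
    | mul g h hg hh ig ih =>
      rw [(show Commute g h from hcE g hg h hh).mul_pow, ig, ih, one_mul]
    | inv g hg ig => rw [inv_pow, ig, inv_one]
  have hle := index_le_four hr E ⊥ hsq
  rw [Subgroup.index_bot] at hle
  have h1 : (⊥ : Subgroup S) < Subgroup.closure ({x} : Set S) := by
    refine bot_lt_iff_ne_bot.2 fun e => hx1 ?_
    have := Subgroup.subset_closure (k := ({x} : Set S)) rfl
    rwa [e, SetLike.mem_coe, Subgroup.mem_bot] at this
  have h2 : Subgroup.closure ({x} : Set S) < Subgroup.closure ({x, y} : Set S) :=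
    lt_of_le_not_ge (Subgroup.closure_mono (by simp)) fun h =>
      hyx (h (Subgroup.subset_closure (by simp)))
  have h3 : Subgroup.closure ({x, y} : Set S) < E :=
    lt_of_le_not_ge (Subgroup.closure_mono (by
      rintro g (rfl | rfl) <;> simp)) fun h => hwxy (h (Subgroup.subset_closure (by simp)))
  have := two_mul_card_le h1
  have := two_mul_card_le h2
  have := two_mul_card_le h3
  have : 0 < Nat.card (⊥ : Subgroup S) := Nat.card_pos
  omega

/-- Two generators. -/
theorem exists_two_generators (h2 : IsPGroup 2 S) (hr : Cfsg.SectionalPRankLE 2 2 S) :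
    ∃ a b : S, Subgroup.closure ({a, b} : Set S) = ⊤ := by
  haveI := Fact.mk Nat.prime_two
  let Φ := frattini S
  suffices h : ∃ a b : S, Subgroup.closure ({a, b} : Set S) ⊔ Φ = ⊤ by
    obtain ⟨a, b, h⟩ := h
    exact ⟨a, b, frattini_nongenerating h⟩
  have hidx : Φ.index ≤ 4 := by
    have hle := index_le_four hr ⊤ (Φ.subgroupOf ⊤)
      fun x => CfsgLib.PGroup.pow_mem_frattini h2 (x : S)
    rwa [← Subgroup.relIndex, Subgroup.relIndex_top_right] at hle
  by_contra hno
  push Not at hno
  obtain ⟨a, ha⟩ : ∃ a, a ∉ Φ := by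
    by_contra! hall
    exact hno 1 1 (top_le_iff.1 fun x _ => Subgroup.mem_sup_right (hall x))
  have h1 : Φ < Subgroup.closure ({a} : Set S) ⊔ Φ :=
    lt_of_le_not_ge le_sup_right fun h => ha (h (Subgroup.mem_sup_left (Subgroup.subset_closure rfl)))
  obtain ⟨b, hb⟩ : ∃ b, b ∉ Subgroup.closure ({a} : Set S) ⊔ Φ := by
    by_contra! hall
    refine hno a 1 (top_le_iff.1 fun x _ => ?_)
    exact (sup_le_sup_right (Subgroup.closure_mono (by simp)) _) (hall x)
  have h2' : Subgroup.closure ({a} : Set S) ⊔ Φ < Subgroup.closure ({a, b} : Set S) ⊔ Φ :=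
    lt_of_le_not_ge (sup_le_sup_right (Subgroup.closure_mono (by simp)) _) fun h =>
      hb (h (Subgroup.mem_sup_left (Subgroup.subset_closure (by simp))))
  have h3 := two_mul_card_le (lt_top_iff_ne_top.2 (hno a b))
  have h1' := two_mul_card_le h1
  have h2'' := two_mul_card_le h2'
  have h4 : Nat.card (⊤ : Subgroup S) ≤ 4 * Nat.card Φ := by
    rw [Subgroup.card_top, ← Φ.card_mul_index, mul_comm]
    exact Nat.mul_le_mul_right _ hidx
  have : 0 < Nat.card Φ := Nat.card_pos
  omega

theorem exists_pow_two_eq (h2 : IsPGroup 2 S) (x : S) : ∃ i, orderOf x = 2 ^ i :=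
  IsPGroup.iff_orderOf.1 h2 x

/-- A cyclic subgroup containing the commutator subgroup, with a generating partner, gives a
metacyclic structure. -/
theorem isMetacyclic_of_pair {y w : S} (hgen : Subgroup.closure ({y, w} : Set S) = ⊤)
    (hD : commutator S ≤ Subgroup.zpowers y) : Cfsg.IsMetacyclic S := by
  have hn : (Subgroup.zpowers y).Normal := ⟨fun x hx g => by
    have h := hD (Subgroup.commutator_mem_commutator (Subgroup.mem_top g) (Subgroup.mem_top x))
    have := (Subgroup.zpowers y).mul_mem h hx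
    simpa [commutatorElement_def] using this⟩
  refine ⟨_, hn, inferInstance, ⟨QuotientGroup.mk w, fun q => ?_⟩⟩
  obtain ⟨g, rfl⟩ := QuotientGroup.mk'_surjective (Subgroup.zpowers y) q
  have h : Subgroup.closure ({y, w} : Set S) ≤
      (Subgroup.zpowers (QuotientGroup.mk w : S ⧸ Subgroup.zpowers y)).comap
        (QuotientGroup.mk' (Subgroup.zpowers y)) := by
    rw [Subgroup.closure_le]
    rintro x (rfl | rfl)
    · rw [SetLike.mem_coe, Subgroup.mem_comap, QuotientGroup.mk'_apply,
        (QuotientGroup.eq_one_iff _).2 (Subgroup.mem_zpowers _)]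
      exact one_mem _
    · exact Subgroup.mem_zpowers _
  exact h (hgen ▸ Subgroup.mem_top g)

/-- The case of a derived subgroup of order two. -/
theorem isMetacyclic_of_commutator (h2 : IsPGroup 2 S) (hr : Cfsg.SectionalPRankLE 2 2 S) {z : S}
    (hz1 : z ≠ 1) (hz : z ^ 2 = 1) (hzc : z ∈ Subgroup.center S)
    (hD : commutator S ≤ Subgroup.zpowers z) : Cfsg.IsMetacyclic S := by
  classical
  by_contra hnm
  have hno : ∀ y w : S, Subgroup.closure ({y, w} : Set S) = ⊤ → ∀ n : ℕ, y ^ n ≠ z := by
    intro y w hg n hn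
    refine hnm (isMetacyclic_of_pair hg (hD.trans ?_))
    rw [Subgroup.zpowers_le, ← hn]
    exact Subgroup.pow_mem _ (Subgroup.mem_zpowers y) n
  obtain ⟨a₀, b₀, hgen₀⟩ := exists_two_generators h2 hr
  obtain ⟨⟨a, b⟩, hgen, hmin⟩ := Set.exists_min_image
    {q : S × S | Subgroup.closure ({q.1, q.2} : Set S) = ⊤} (fun q => orderOf q.1 + orderOf q.2)
    (Set.toFinite _) ⟨(a₀, b₀), hgen₀⟩
  simp only [Set.mem_ofPred_eq] at hgen hmin
  replace hmin : ∀ x y : S, Subgroup.closure ({x, y} : Set S) = ⊤ →
      orderOf a + orderOf b ≤ orderOf x + orderOf y := fun x y h => hmin (x, y) h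
  have hswap : ∀ {x y : S}, Subgroup.closure ({x, y} : Set S) = ⊤ →
      Subgroup.closure ({y, x} : Set S) = ⊤ := fun h => by rwa [Set.pair_comm]
  wlog hle : orderOf a ≤ orderOf b generalizing a b
  · exact this b a (hswap hgen) (fun x y h => (add_comm _ _).trans_le (hmin x y h)) (le_of_not_ge hle)
  have hzc' : ∀ g, g * z = z * g := Subgroup.mem_center_iff.1 hzc
  have hzz : z⁻¹ = z := inv_eq_of_mul_eq_one_right (by rw [← pow_two, hz])
  have hcom : ∀ x y : S, ⁅x, y⁆ = 1 ∨ ⁅x, y⁆ = z := fun x y => zpowers_cases hz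
    (hD (Subgroup.commutator_mem_commutator (Subgroup.mem_top x) (Subgroup.mem_top y)))
  have hcom' : ∀ x y : S, x * y = y * x ∨ x * y = z * (y * x) := fun x y => by
    rcases hcom x y with h | h
    · exact Or.inl (commutatorElement_eq_one_iff_mul_comm.1 h)
    · right
      rw [← h, commutatorElement_def]; group
  have hne : a * b ≠ b * a := fun h => by
    have ha := mem_center_of_closure hgen (x := a) rfl h.symm
    have hb := mem_center_of_closure hgen (x := b) h rfl
    have hall : ∀ g : S, g ∈ Subgroup.center S := fun g => by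
      have : Subgroup.closure ({a, b} : Set S) ≤ Subgroup.center S := by
        rw [Subgroup.closure_le]; rintro x (rfl | rfl) <;> assumption
      exact this (hgen ▸ Subgroup.mem_top g)
    refine hnm (isMetacyclic_of_pair hgen ?_)
    rw [commutator_def, Subgroup.commutator_le]
    intro g₁ _ g₂ _
    rw [commutatorElement_eq_one_iff_mul_comm.2 ((Subgroup.mem_center_iff.1 (hall g₁) g₂).symm)]
    exact one_mem _
  have hba : b * a = z * (a * b) := (hcom' b a).resolve_left fun h => hne h.symm
  have hsq : ∀ x : S, x ^ 2 ∈ Subgroup.center S := by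
    intro x
    refine Subgroup.mem_center_iff.2 fun y => ?_
    rcases hcom' y x with h | h
    · exact ((show Commute y x from h).pow_right 2).eq
    · rw [pow_two, ← mul_assoc, h, mul_assoc z, mul_assoc x y x, h, ← mul_assoc x z, hzc' x,
        mul_assoc z x, ← mul_assoc z z, ← pow_two, hz, one_mul, ← mul_assoc]
  obtain ⟨i, hi⟩ := exists_pow_two_eq h2 a
  obtain ⟨j, hj⟩ := exists_pow_two_eq h2 b
  have hij : i ≤ j := (Nat.pow_le_pow_iff_right (le_refl 2)).1 (hi ▸ hj ▸ hle)
  have hi0 : i ≠ 0 := fun h => by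
    rw [h, pow_zero, orderOf_eq_one_iff] at hi
    exact hne (by rw [hi, one_mul, mul_one])
  have hinv : ∀ (x : S) (k : ℕ), orderOf x = 2 ^ (k + 1) →
      x ^ (2 ^ k) ≠ 1 ∧ (x ^ (2 ^ k)) ^ 2 = 1 := by
    intro x k hk
    refine ⟨fun h => ?_, ?_⟩
    · have := orderOf_dvd_of_pow_eq_one h
      rw [hk, Nat.pow_dvd_pow_iff_le_right (le_refl 2)] at this
      omega
    · rw [← pow_mul, ← pow_succ, ← hk, pow_orderOf_eq_one]
  obtain ⟨i, rfl⟩ : ∃ k, i = k + 1 := ⟨i - 1, by omega⟩
  obtain ⟨j, rfl⟩ : ∃ k, j = k + 1 := ⟨j - 1, by omega⟩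
  replace hij : i ≤ j := by omega
  obtain ⟨hb1, hb2⟩ := hinv b j hj
  obtain ⟨ha1, ha2⟩ := hinv a i hi
  set α := a ^ (2 ^ i) with hαdef
  set β := b ^ (2 ^ j) with hβdef
  have hnotz : ∀ (x y : S) (n : ℕ), Subgroup.closure ({x, y} : Set S) = ⊤ → x ^ n ≠ 1 →
      x ^ n ∉ Subgroup.closure ({z} : Set S) := by
    intro x y n hg hn h
    rw [← Subgroup.zpowers_eq_closure] at h
    exact (zpowers_cases hz h).elim hn (hno x y hg n)
  have hβz := hnotz b a _ (hswap hgen) hb1
  have hαz := hnotz a b _ hgen ha1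
  rcases Nat.eq_zero_or_pos i with rfl | hipos
  · rcases Nat.eq_zero_or_pos j with rfl | hjpos
    · -- two involutions generate a dihedral group
      rw [pow_zero, pow_one] at hαdef hβdef
      rw [hαdef] at ha2; rw [hβdef] at hb2
      have hg : Subgroup.closure ({a * b, b} : Set S) = ⊤ := by
        refine top_le_iff.1 (hgen.ge.trans ((Subgroup.closure_le _).2 ?_))
        rintro g (rfl | rfl)
        · simpa using mul_mem (Subgroup.subset_closure (k := ({g * b, b} : Set S)) (by simp : g * b ∈ _))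
            (inv_mem (Subgroup.subset_closure (k := ({g * b, b} : Set S)) (by simp : b ∈ _)))
        · exact Subgroup.subset_closure (by simp)
      refine hno (a * b) b hg 2 ?_
      rw [pow_two, mul_assoc, ← mul_assoc b a b, hba, mul_assoc z, mul_assoc a b b, ← pow_two b, hb2,
        mul_one, ← mul_assoc, hzc' a, mul_assoc, ← pow_two a, ha2, mul_one]
    · have hβc : β ∈ Subgroup.center S := by
        rw [hβdef, ← Nat.sub_add_cancel hjpos, pow_succ', pow_mul]
        exact Subgroup.pow_mem _ (hsq b) _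
      rw [pow_zero, pow_one] at hαdef
      rw [hαdef] at ha2
      have hmem := mem_pair_of_involutions hr (x := z) (y := β) (w := a)
        (hzc' _).symm (hzc' a).symm ((Subgroup.mem_center_iff.1 hβc a).symm) hz hb2 ha2 hz1 hβz
      have hle' : Subgroup.closure ({z, β} : Set S) ≤ Subgroup.center S := by
        rw [Subgroup.closure_le]; rintro g (rfl | rfl) <;> assumption
      exact hne (Subgroup.mem_center_iff.1 (hle' hmem) b).symm
  have hjpos : 0 < j := by omega
  have hαc : α ∈ Subgroup.center S := by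
    rw [hαdef, ← Nat.sub_add_cancel hipos, pow_succ', pow_mul]
    exact Subgroup.pow_mem _ (hsq a) _
  have hmem := mem_pair_of_involutions hr (x := z) (y := α) (w := β)
    (hzc' _).symm (hzc' _).symm ((Subgroup.mem_center_iff.1 hαc β).symm) hz ha2 hb2 hz1 hαz
  have hβ : α * β⁻¹ = 1 ∨ α * β⁻¹ = z := by
    rcases closure_pair_cases hz ha2 (hzc' α).symm hmem with h | h | h | h
    · exact absurd h hb1
    · exact absurd h (hno b a (hswap hgen) _)
    · left; rw [h, mul_inv_cancel]
    · right; rw [h, mul_inv_rev, ← mul_assoc, mul_inv_cancel, one_mul, hzz]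
  -- lower the order of `a` by a power of `b`
  set x := (b ^ (2 ^ (j - i)))⁻¹ with hxdef
  have hxpow : x ^ (2 ^ i) = β⁻¹ := by
    rw [hxdef, inv_pow, ← pow_mul, ← pow_add, Nat.sub_add_cancel hij]
  have hy : Subgroup.closure ({a * x, b} : Set S) = ⊤ := by
    refine top_le_iff.1 (hgen.ge.trans ((Subgroup.closure_le _).2 ?_))
    have hb : b ∈ Subgroup.closure ({a * x, b} : Set S) := Subgroup.subset_closure (by simp)
    rintro g (rfl | rfl)
    · have hx' : x ∈ Subgroup.closure ({g * x, b} : Set S) :=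
        inv_mem (Subgroup.pow_mem _ hb _)
      simpa using mul_mem (Subgroup.subset_closure (k := ({g * x, b} : Set S)) (by simp : g * x ∈ _))
        (inv_mem hx')
    · exact hb
  have hpow : (a * x) ^ (2 ^ i) = 1 ∨ (a * x) ^ (2 ^ i) = z := by
    obtain ⟨i', rfl⟩ : ∃ k, i = k + 1 := ⟨i - 1, by omega⟩
    rcases hcom' x a with h | h
    · rw [(show Commute a x from h.symm).mul_pow, hxpow]
      exact hβ
    · have hsq' : (a * x) ^ 2 = z * (a ^ 2 * x ^ 2) := by
        rw [pow_two, pow_two, pow_two, mul_assoc, ← mul_assoc x a x, h, mul_assoc z, ← mul_assoc a z,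
          hzc' a]
        simp only [mul_assoc]
      have h' : (a * x) ^ (2 ^ (i' + 1)) = z ^ (2 ^ i') * (α * β⁻¹) := by
        rw [pow_succ', pow_mul, hsq', (show Commute z (a ^ 2 * x ^ 2) from (hzc' _).symm).mul_pow,
          (show Commute (a ^ 2) (x ^ 2) from
            (Subgroup.mem_center_iff.1 (hsq a) _).symm).mul_pow, ← pow_mul, ← pow_mul, ← pow_succ',
          hxpow]
      rw [h']
      rcases Nat.eq_zero_or_pos i' with rfl | hi'
      · rw [pow_zero, pow_one]
        rcases hβ with e | e <;> rw [e]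
        · exact Or.inr (mul_one z)
        · exact Or.inl (by rw [← pow_two, hz])
      · rw [← Nat.sub_add_cancel hi', pow_succ', pow_mul, hz, one_pow, one_mul]
        exact hβ
  rcases hpow with h | h
  · have h1 := hmin _ _ hy
    have h2 : orderOf (a * x) ≤ 2 ^ i := orderOf_le_of_pow_eq_one (by positivity) h
    have h3 : (2 : ℕ) ^ i < 2 ^ (i + 1) := Nat.pow_lt_pow_right (by norm_num) (by omega)
    omega
  · exact hno _ _ hy _ h

end Basic

/-- Sectional rank bounds pass to images. -/
theorem sectionalPRankLE_of_surjective {p k : ℕ} {G : Type*} [Group G] {Q : Type*} [Group Q]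
    (hr : Cfsg.SectionalPRankLE p k G) (f : G →* Q) (hf : Function.Surjective f) :
    Cfsg.SectionalPRankLE p k Q := by
  intro H N hN A hA hAp
  let g : H.comap f →* H := f.subgroupComap H
  have hg : Function.Surjective g := f.subgroupComap_surjective_of_surjective H hf
  let ψ : H.comap f →* H ⧸ N := (QuotientGroup.mk' N).comp g
  have hψ : Function.Surjective ψ := (QuotientGroup.mk'_surjective N).comp hg
  let e := QuotientGroup.quotientKerEquivOfSurjective ψ hψ
  have h := hr (H.comap f) ψ.ker (A.map e.symm.toMonoidHom)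
    ⟨⟨fun x y => by
      obtain ⟨a, ha, hxa⟩ := x.2
      obtain ⟨b, hb, hyb⟩ := y.2
      apply Subtype.ext
      rw [Subgroup.coe_mul, Subgroup.coe_mul, ← hxa, ← hyb, ← map_mul, ← map_mul,
        show a * b = b * a from congrArg Subtype.val (hA.is_comm.comm ⟨a, ha⟩ ⟨b, hb⟩)]⟩⟩
    (by
      rintro x ⟨a, ha, rfl⟩
      rw [← map_pow, hAp a ha, map_one])
  rwa [Subgroup.card_map_of_injective e.symm.injective] at h

section Step

variable {S : Type u} [Group S] [Finite S]

/-- A subgroup of squares of exponent two is not a four group below a noncentral element. -/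
theorem false_of_four (hr : Cfsg.SectionalPRankLE 2 2 S) {a b u z : S}
    (hgen : Subgroup.closure ({a, b} : Set S) = ⊤) (hzc : z ∈ Subgroup.center S) (hz1 : z ≠ 1)
    (hz : z ^ 2 = 1) (hu : u ^ 2 = 1) (hab : a * b = u * (b * a)) (hau : a * u = u * a)
    (hbu : b * u = u * z * b) : False := by
  have hzc' : ∀ g, g * z = z * g := Subgroup.mem_center_iff.1 hzc
  rw [pow_two] at hu hz
  have hba : b * a = u * (a * b) := by rw [hab, ← mul_assoc, hu, one_mul]
  have ha2b : (a * a) * b = b * (a * a) := by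
    rw [mul_assoc, hab, ← mul_assoc a u, hau, mul_assoc u a, ← mul_assoc a b a, hab, mul_assoc u,
      ← mul_assoc u u, hu, one_mul, mul_assoc]
  have hb2u : (b * b) * u = u * (b * b) := by
    rw [mul_assoc, hbu, ← mul_assoc b (u * z) b, ← mul_assoc b u z, hbu, mul_assoc (u * z) b z,
      hzc' b, mul_assoc u z, ← mul_assoc z z b, hz, one_mul, mul_assoc]
  have hb2a : (b * b) * a = z * (a * (b * b)) := by
    rw [mul_assoc, hba, ← mul_assoc b u, hbu, mul_assoc (u * z) b, ← mul_assoc b a b, hba,
      mul_assoc u (a * b) b, mul_assoc a b b, mul_assoc u z, ← mul_assoc z u, ← hzc' u,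
      mul_assoc u z, ← mul_assoc u u, hu, one_mul]
  have ha2c : a * a ∈ Subgroup.center S :=
    mem_center_of_closure hgen (mul_assoc a a a).symm ha2b.symm
  let W := Subgroup.closure ({a, b * b, u} : Set S)
  let N : Subgroup W := (Subgroup.center S).subgroupOf W
  have haW : a ∈ W := Subgroup.subset_closure (by simp)
  have hbW : b * b ∈ W := Subgroup.subset_closure (by simp)
  have huW : u ∈ W := Subgroup.subset_closure (by simp)
  have hb2uc : Commute (b * b) u := hb2u
  have hauc : Commute a u := hau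
  have hb4 : (b * b) * (b * b) ∈ Subgroup.center S := by
    refine mem_center_of_closure hgen ?_ (by simp only [mul_assoc])
    rw [mul_assoc (b * b) (b * b) a, hb2a, ← mul_assoc (b * b) z, hzc' (b * b), mul_assoc z,
      ← mul_assoc (b * b) a, hb2a, mul_assoc z (a * (b * b)), ← mul_assoc z z, hz, one_mul,
      mul_assoc a]
  -- squares of elements of W are central
  let π := QuotientGroup.mk' N
  have hone : ∀ (x : S) (hx : x ∈ W), x ∈ Subgroup.center S → π ⟨x, hx⟩ = 1 := fun x hx hc =>
    (QuotientGroup.eq_one_iff _).2 hc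
  have hcomm : ∀ g ∈ ({a, b * b, u} : Set S), ∀ h ∈ ({a, b * b, u} : Set S),
      g * h = h * g ∨ g * h = z * (h * g) := by
    rintro g (rfl | rfl | rfl) h (rfl | rfl | rfl)
    · exact Or.inl rfl
    · exact Or.inr (by rw [hb2a, ← mul_assoc z z, hz, one_mul])
    · exact Or.inl hau
    · exact Or.inr hb2a
    · exact Or.inl rfl
    · exact Or.inl hb2u
    · exact Or.inl hau.symm
    · exact Or.inl hb2u.symm
    · exact Or.inl rfl
  have hcentral : ∀ x y : W, ∃ c ∈ Subgroup.center S, (x : S) * y = c * (y * x) := by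
    have key : ∀ g ∈ W, ∀ h ∈ ({a, b * b, u} : Set S), g * h = h * g ∨ g * h = z * (h * g) := by
      intro g hg h hh
      induction hg using Subgroup.closure_induction with
      | mem g hg => exact hcomm g hg h hh
      | one => exact Or.inl (by simp)
      | mul g k hg hk ig ik =>
        rcases ik with ek | ek <;> rcases ig with eg | eg
        · left; rw [mul_assoc, ek, ← mul_assoc, eg, mul_assoc]
        · right; rw [mul_assoc, ek, ← mul_assoc, eg]; simp only [mul_assoc]
        · right; rw [mul_assoc, ek, ← mul_assoc g z, hzc' g, mul_assoc z g, ← mul_assoc g h, eg,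
            mul_assoc h g k]
        · left; rw [mul_assoc, ek, ← mul_assoc g z, hzc' g, mul_assoc z g, ← mul_assoc g h, eg,
            mul_assoc z, ← mul_assoc z z, hz, one_mul, mul_assoc h g k]
      | inv g hg ig =>
        rcases ig with eg | eg
        · left; exact ((show Commute g h from eg).inv_left).eq
        · right
          calc g⁻¹ * h = g⁻¹ * (h * g) * g⁻¹ := by group
            _ = g⁻¹ * (z * z * (h * g)) * g⁻¹ := by rw [hz, one_mul]
            _ = g⁻¹ * (z * (g * h)) * g⁻¹ := by rw [eg]; simp only [mul_assoc]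
            _ = z * (h * g⁻¹) := by
              rw [← mul_assoc g⁻¹ z, hzc' g⁻¹, mul_assoc z g⁻¹, inv_mul_cancel_left, mul_assoc]
    intro x y
    obtain ⟨x, hx⟩ := x
    obtain ⟨y, hy⟩ := y
    suffices h : x * y = y * x ∨ x * y = z * (y * x) by
      rcases h with h | h
      · exact ⟨1, one_mem _, by rw [one_mul]; exact h⟩
      · exact ⟨z, hzc, h⟩
    induction hy using Subgroup.closure_induction with
    | mem y hy => exact key x hx y hy
    | one => exact Or.inl (by simp)
    | mul g k hg hk ig ik =>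
      rcases ig with eg | eg <;> rcases ik with ek | ek
      · left; rw [← mul_assoc, eg, mul_assoc, ek, mul_assoc]
      · right; rw [← mul_assoc, eg, mul_assoc, ek, ← mul_assoc g z, hzc' g]; simp only [mul_assoc]
      · right; rw [← mul_assoc, eg, mul_assoc z, mul_assoc g x k, ek, mul_assoc g k x]
      · left; rw [← mul_assoc, eg, mul_assoc z, mul_assoc g x k, ek, ← mul_assoc g z, hzc' g,
          mul_assoc z g, ← mul_assoc z z, hz, one_mul, mul_assoc g k x]
    | inv g hg ig =>
      rcases ig with eg | eg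
      · left; exact ((show Commute x g from eg).inv_right).eq
      · right
        calc x * g⁻¹ = g⁻¹ * (g * x) * g⁻¹ := by group
          _ = g⁻¹ * (z * z * (g * x)) * g⁻¹ := by rw [hz, one_mul]
          _ = g⁻¹ * (z * (x * g)) * g⁻¹ := by rw [eg]; simp only [mul_assoc]
          _ = z * (g⁻¹ * x) := by
            rw [← mul_assoc g⁻¹ z, hzc' g⁻¹]
            group
  haveI : N.Normal := ⟨fun n hn g => by
    show (g : S) * n * (g : S)⁻¹ ∈ Subgroup.center S
    have hn' : (n : S) ∈ Subgroup.center S := hn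
    rwa [Subgroup.mem_center_iff.1 hn' g, mul_inv_cancel_right]⟩
  have hqc : ∀ p q : W ⧸ N, p * q = q * p := fun p q => by
    obtain ⟨x, rfl⟩ := QuotientGroup.mk'_surjective N p
    obtain ⟨y, rfl⟩ := QuotientGroup.mk'_surjective N q
    obtain ⟨c, hc, he⟩ := hcentral x y
    have hcW : c ∈ W := by
      have : c = (x : S) * y * ((y : S) * x)⁻¹ := by rw [he]; group
      rw [this]
      exact mul_mem (mul_mem x.2 y.2) (inv_mem (mul_mem y.2 x.2))
    have he' : x * y = (⟨c, hcW⟩ : W) * (y * x) := Subtype.ext he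
    rw [← map_mul, ← map_mul, he', map_mul, hone c hcW hc, one_mul]
  have hsq : ∀ x : W, x ^ 2 ∈ N := by
    rintro ⟨x, hx⟩
    rw [← QuotientGroup.eq_one_iff, ← QuotientGroup.mk'_apply, map_pow]
    induction hx using Subgroup.closure_induction with
    | mem g hg =>
      rw [← map_pow]
      refine (QuotientGroup.eq_one_iff _).2 ?_
      show g ^ 2 ∈ Subgroup.center S
      rcases hg with rfl | rfl | rfl
      · rwa [pow_two]
      · rwa [pow_two]
      · rw [pow_two, hu]; exact one_mem _
    | one => exact (congrArg (· ^ 2) (map_one π)).trans (one_pow 2)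
    | mul g k hg hk ig ik =>
      rw [show (⟨g * k, _⟩ : W) = ⟨g, hg⟩ * ⟨k, hk⟩ from rfl, map_mul,
        (show Commute _ _ from hqc _ _).mul_pow, ig, ik, one_mul]
    | inv g hg ig =>
      rw [show (⟨g⁻¹, _⟩ : W) = (⟨g, hg⟩ : W)⁻¹ from rfl, map_inv, inv_pow, ig, inv_one]
  -- the index is at least eight
  have hle := index_le_four hr W N hsq
  let C₁ := W ⊓ Subgroup.centralizer ({a} : Set S)
  let C₂ := C₁ ⊓ Subgroup.centralizer ({b * b} : Set S)
  let C₃ := C₂ ⊓ Subgroup.centralizer ({b} : Set S)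
  have h1 : C₁ < W := lt_of_le_not_ge inf_le_left fun h => by
    have h' := Subgroup.mem_centralizer_singleton_iff.1 (h hbW).2
    rw [hb2a] at h'
    exact hz1 (mul_right_cancel ((one_mul (a * (b * b))).trans (by first | exact h'.symm | exact h')).symm)
  have h2 : C₂ < C₁ := lt_of_le_not_ge inf_le_left fun h => by
    have ha1 : a ∈ C₁ := ⟨haW, Subgroup.mem_centralizer_singleton_iff.2 rfl⟩
    have h' := Subgroup.mem_centralizer_singleton_iff.1 (h ha1).2
    rw [hb2a] at h'
    exact hz1 (mul_right_cancel ((one_mul (a * (b * b))).trans (by first | exact h'.symm | exact h')).symm)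
  have h3 : C₃ < C₂ := lt_of_le_not_ge inf_le_left fun h => by
    have hu2 : u ∈ C₂ := ⟨⟨huW, Subgroup.mem_centralizer_singleton_iff.2 hau.symm⟩,
      Subgroup.mem_centralizer_singleton_iff.2 hb2u.symm⟩
    have h' := Subgroup.mem_centralizer_singleton_iff.1 (h hu2).2
    rw [hbu] at h'
    have h'' : u * z = u := mul_right_cancel (by first | exact h'.symm | exact h' : u * z * b = u * b)
    exact hz1 (mul_eq_left.1 h'')
  have hN : N.map W.subtype ≤ C₃ := by
    rintro _ ⟨x, hx, rfl⟩
    exact ⟨⟨⟨x.2, Subgroup.mem_centralizer_singleton_iff.2 (Subgroup.mem_center_iff.1 hx a).symm⟩,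
      Subgroup.mem_centralizer_singleton_iff.2 (Subgroup.mem_center_iff.1 hx (b * b)).symm⟩,
      Subgroup.mem_centralizer_singleton_iff.2 (Subgroup.mem_center_iff.1 hx b).symm⟩
  have hc := Subgroup.card_le_of_le hN
  rw [Subgroup.card_map_of_injective W.subtype_injective] at hc
  have := two_mul_card_le h1
  have := two_mul_card_le h2
  have := two_mul_card_le h3
  have hW : Nat.card W = Nat.card N * N.index := (N.card_mul_index).symm
  have : Nat.card W ≤ Nat.card N * 4 := hW ▸ Nat.mul_le_mul_left _ hle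
  have : 0 < Nat.card N := Nat.card_pos
  omega

/-- An involution of the centre inside a nontrivial normal subgroup. -/
theorem exists_central_involution_mem (h2 : IsPGroup 2 S) {D : Subgroup S} [D.Normal] (hD : D ≠ ⊥) :
    ∃ z ∈ D, z ∈ Subgroup.center S ∧ z ≠ 1 ∧ z ^ 2 = 1 := by
  haveI := Fact.mk Nat.prime_two
  have hN : Nontrivial D := Subgroup.nontrivial_iff_ne_bot D |>.2 hD
  obtain ⟨hdiv, -⟩ : 2 ∣ Nat.card D ∧ True := by
    refine ⟨?_, trivial⟩
    obtain ⟨k, hk⟩ := (IsPGroup.iff_card.1 (h2.to_subgroup D))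
    rcases Nat.eq_zero_or_pos k with rfl | hk0
    · exact absurd (Finite.one_lt_card (α := D)) (by rw [hk]; norm_num)
    · exact hk ▸ dvd_pow_self 2 hk0.ne'
  have hact : IsPGroup 2 (ConjAct S) := h2.of_equiv ConjAct.toConjAct
  obtain ⟨w, hw, hw1⟩ := hact.exists_fixed_point_of_prime_dvd_card_of_fixed_point D hdiv
    (a := (1 : D)) (by intro g; exact smul_one g)
  have hwc : (w : S) ∈ Subgroup.center S := Subgroup.mem_center_iff.2 fun g => by
    have h := congrArg Subtype.val (hw (ConjAct.toConjAct g))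
    have h' : g * (w : S) * g⁻¹ = w := h
    exact (mul_inv_eq_iff_eq_mul.1 h')
  obtain ⟨k, hk⟩ := exists_pow_two_eq h2 (w : S)
  rcases Nat.eq_zero_or_pos k with rfl | hk0
  · rw [pow_zero, orderOf_eq_one_iff] at hk
    exact absurd (Subtype.ext hk.symm) hw1
  obtain ⟨k, rfl⟩ : ∃ l, k = l + 1 := ⟨k - 1, by omega⟩
  refine ⟨(w : S) ^ (2 ^ k), Subgroup.pow_mem _ w.2 _, Subgroup.pow_mem _ hwc _, fun h => ?_, ?_⟩
  · have := orderOf_dvd_of_pow_eq_one h
    rw [hk, Nat.pow_dvd_pow_iff_le_right (le_refl 2)] at this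
    omega
  · rw [← pow_mul, ← pow_succ, ← hk, pow_orderOf_eq_one]

/-- The inductive step. -/
theorem isMetacyclic_step (h2 : IsPGroup 2 S) (hr : Cfsg.SectionalPRankLE 2 2 S)
    (hq : ∀ Z : Subgroup S, ∀ _ : Z.Normal, Z ≠ ⊥ → Cfsg.IsMetacyclic (S ⧸ Z)) :
    Cfsg.IsMetacyclic S := by
  obtain ⟨a, b, hgen⟩ := exists_two_generators h2 hr
  by_cases hD : commutator S = ⊥
  · exact isMetacyclic_of_pair hgen (hD ▸ bot_le)
  obtain ⟨z, hzD, hzc, hz1, hz⟩ := exists_central_involution_mem h2 hD
  have hzc' : ∀ g, g * z = z * g := Subgroup.mem_center_iff.1 hzc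
  have central_normal : ∀ c ∈ Subgroup.center S, (Subgroup.zpowers c).Normal := fun c hc =>
    ⟨fun n hn g => by
      have : n ∈ Subgroup.center S := (Subgroup.zpowers_le.2 hc) hn
      rwa [Subgroup.mem_center_iff.1 this g, mul_inv_cancel_right]⟩
  haveI := central_normal z hzc
  obtain ⟨N, hNn, hNc, hNq⟩ := hq (Subgroup.zpowers z) inferInstance
    (Subgroup.zpowers_ne_bot.2 hz1)
  haveI := hNn
  obtain ⟨cbar, hcbar⟩ := hNc.exists_generator
  obtain ⟨c, hc⟩ := QuotientGroup.mk'_surjective (Subgroup.zpowers z) (cbar : S ⧸ Subgroup.zpowers z)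
  let A := N.comap (QuotientGroup.mk' (Subgroup.zpowers z))
  have hA : ∀ x ∈ A, ∃ i : ℤ, x = c ^ i ∨ x = c ^ i * z := by
    intro x hx
    obtain ⟨i, hi⟩ := hcbar ⟨_, hx⟩
    have hi' : (QuotientGroup.mk' (Subgroup.zpowers z)) (c ^ i) =
        (QuotientGroup.mk' (Subgroup.zpowers z)) x := by
      rw [map_zpow, hc]; exact congrArg Subtype.val hi
    rw [QuotientGroup.mk'_eq_mk'] at hi'
    obtain ⟨w, hw, rfl⟩ := hi'
    rcases zpowers_cases hz hw with rfl | rfl
    · exact ⟨i, Or.inl (mul_one _)⟩
    · exact ⟨i, Or.inr rfl⟩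
  have hzA : z ∈ A := by
    show QuotientGroup.mk' _ z ∈ N
    rw [QuotientGroup.mk'_apply, (QuotientGroup.eq_one_iff _).2 (Subgroup.mem_zpowers z)]
    exact one_mem _
  have hcA : c ∈ A := by
    show QuotientGroup.mk' _ c ∈ N
    rw [hc]; exact cbar.2
  have hAc : ∀ x ∈ A, ∀ y ∈ A, x * y = y * x := by
    intro x hx y hy
    obtain ⟨i, rfl | rfl⟩ := hA x hx <;> obtain ⟨k, rfl | rfl⟩ := hA y hy
    all_goals first
      | exact ((Commute.refl c).zpow_zpow i k).eq
      | skip
    · exact (((Commute.refl c).zpow_zpow i k).mul_right (hzc' _)).eq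
    · exact (((Commute.refl c).zpow_zpow i k).mul_left ((hzc' _).symm)).eq
    · exact ((((Commute.refl c).zpow_zpow i k).mul_left ((hzc' _).symm)).mul_right
        (hzc' _)).eq
  have hDA : commutator S ≤ A := by
    obtain ⟨g, hg⟩ := hNq.exists_generator
    rw [commutator_def, Subgroup.commutator_le]
    intro x _ y _
    have h : QuotientGroup.mk' N (QuotientGroup.mk' (Subgroup.zpowers z) ⁅x, y⁆) = 1 := by
      rw [map_commutatorElement, map_commutatorElement, commutatorElement_eq_one_iff_mul_comm]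
      obtain ⟨i, hi⟩ := hg (QuotientGroup.mk' N (QuotientGroup.mk' _ x))
      obtain ⟨k, hk⟩ := hg (QuotientGroup.mk' N (QuotientGroup.mk' _ y))
      rw [← hi, ← hk]
      exact ((Commute.refl g).zpow_zpow i k).eq
    show QuotientGroup.mk' _ ⁅x, y⁆ ∈ N
    exact (QuotientGroup.eq_one_iff _).1 h
  by_cases hzc0 : z ∈ Subgroup.zpowers c
  · -- `A` is cyclic
    have hAe : A = Subgroup.zpowers c := by
      refine le_antisymm (fun x hx => ?_) (Subgroup.zpowers_le.2 hcA)
      obtain ⟨i, rfl | rfl⟩ := hA x hx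
      · exact Subgroup.zpow_mem _ (Subgroup.mem_zpowers c) i
      · exact mul_mem (Subgroup.zpow_mem _ (Subgroup.mem_zpowers c) i) hzc0
    obtain ⟨g, hg⟩ := hNq.exists_generator
    obtain ⟨g₁, rfl⟩ := QuotientGroup.mk'_surjective N g
    obtain ⟨g₀, rfl⟩ := QuotientGroup.mk'_surjective (Subgroup.zpowers z) g₁
    refine ⟨A, inferInstance, by rw [hAe]; infer_instance,
      ⟨QuotientGroup.mk g₀, fun q => ?_⟩⟩
    obtain ⟨x, rfl⟩ := QuotientGroup.mk'_surjective A q
    obtain ⟨i, hi⟩ := hg (QuotientGroup.mk' N (QuotientGroup.mk' _ x))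
    refine ⟨i, ?_⟩
    show (QuotientGroup.mk' A g₀) ^ i = _
    rw [← map_zpow]
    refine (QuotientGroup.mk'_eq_mk' A).2 ⟨(g₀ ^ i)⁻¹ * x, ?_, mul_inv_cancel_left _ _⟩
    show QuotientGroup.mk' _ _ ∈ N
    rw [← QuotientGroup.eq_one_iff, ← QuotientGroup.mk'_apply, map_mul, map_mul, map_inv, map_inv,
      map_zpow, map_zpow, ← hi, inv_mul_cancel]
  -- now `A` is the product of `⟨c⟩` and `⟨z⟩`
  by_cases hsq : ∀ d ∈ commutator S, d ^ 2 = 1
  · by_cases hDz : commutator S ≤ Subgroup.zpowers z
    · exact isMetacyclic_of_commutator h2 hr hz1 hz hzc hDz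
    exfalso
    -- the commutator is noncentral
    have hu2 : ⁅a, b⁆ ^ 2 = 1 :=
      hsq _ (Subgroup.commutator_mem_commutator (Subgroup.mem_top a) (Subgroup.mem_top b))
    have huc : ⁅a, b⁆ ∉ Subgroup.center S := by
      intro h
      refine hDz ?_
      haveI := central_normal _ h
      have hle : commutator S ≤ Subgroup.zpowers ⁅a, b⁆ := by
        let π := QuotientGroup.mk' (Subgroup.zpowers ⁅a, b⁆)
        have hab : π a * π b = π b * π a := by
          rw [← commutatorElement_eq_one_iff_mul_comm, ← map_commutatorElement]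
          exact (QuotientGroup.eq_one_iff _).2 (Subgroup.mem_zpowers _)
        have hgen' : Subgroup.closure ({π a, π b} : Set _) = ⊤ := by
          rw [← Set.image_pair, ← MonoidHom.map_closure, hgen,
            Subgroup.map_top_of_surjective _ (QuotientGroup.mk'_surjective _)]
        have hc : ∀ q, q ∈ Subgroup.center (S ⧸ Subgroup.zpowers ⁅a, b⁆) := by
          intro q
          have hle : Subgroup.closure ({π a, π b} : Set _) ≤ Subgroup.center _ := by
            rw [Subgroup.closure_le]
            rintro x (rfl | rfl)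
            · exact mem_center_of_closure hgen' rfl hab.symm
            · exact mem_center_of_closure hgen' hab rfl
          exact hle (hgen' ▸ Subgroup.mem_top q)
        rw [commutator_def, Subgroup.commutator_le]
        intro x _ y _
        rw [← QuotientGroup.eq_one_iff, ← QuotientGroup.mk'_apply, map_commutatorElement,
          commutatorElement_eq_one_iff_mul_comm]
        exact (Subgroup.mem_center_iff.1 (hc (π y)) (π x))
      rcases zpowers_cases hu2 (hle hzD) with e | e
      · exact absurd e hz1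
      · rwa [← e] at hle
    set u := ⁅a, b⁆ with hu
    have huA : u ∈ A :=
      hDA (Subgroup.commutator_mem_commutator (Subgroup.mem_top a) (Subgroup.mem_top b))
    -- the conjugates of `u`
    have hconj : ∀ g : S, g * u = u * g ∨ g * u = u * z * g := by
      intro g
      have hv : g * u * g⁻¹ ∈ A := (inferInstance : A.Normal).conj_mem _ huA g
      have hv2 : (g * u * g⁻¹) ^ 2 = 1 := by rw [conj_pow, hu2, mul_one, mul_inv_cancel]
      have key : ∀ x ∈ A, x ^ 2 = 1 → ∃ i : ℤ, c ^ (2 * i) = 1 ∧ (x = c ^ i ∨ x = c ^ i * z) := by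
        intro x hx hx2
        obtain ⟨i, e | e⟩ := hA x hx
        · refine ⟨i, ?_, Or.inl e⟩
          rw [mul_comm, zpow_mul, ← e]; exact_mod_cast hx2
        · refine ⟨i, ?_, Or.inr e⟩
          rw [e, (show Commute (c ^ i) z from hzc' _).mul_pow, hz, mul_one] at hx2
          rw [mul_comm, zpow_mul]; exact_mod_cast hx2
      -- there is at most one involution in `⟨c⟩`
      have huniq : ∀ i k : ℤ, c ^ (2 * i) = 1 → c ^ (2 * k) = 1 → c ^ i ≠ 1 → c ^ k ≠ 1 →
          c ^ i = c ^ k := by
        intro i k hi hk hi1 hk1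
        rw [← orderOf_dvd_iff_zpow_eq_one] at hi hk
        rw [Ne, ← orderOf_dvd_iff_zpow_eq_one] at hi1 hk1
        rw [← mul_inv_eq_one, ← zpow_neg, ← zpow_add, ← orderOf_dvd_iff_zpow_eq_one]
        obtain ⟨r, hr'⟩ := hi
        obtain ⟨t, ht⟩ := hk
        rcases Int.even_or_odd r with ⟨r', rfl⟩ | ⟨r', rfl⟩
        · exact absurd ⟨r', by linarith⟩ hi1
        rcases Int.even_or_odd t with ⟨t', rfl⟩ | ⟨t', rfl⟩
        · exact absurd ⟨t', by linarith⟩ hk1
        exact ⟨r' - t', by linarith⟩
      obtain ⟨i, hi, hue⟩ := key u huA hu2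
      obtain ⟨k, hk, hve⟩ := key _ hv hv2
      have hi1 : c ^ i ≠ 1 := by
        intro h
        rcases hue with e | e <;> rw [h] at e
        · exact huc (e ▸ one_mem _)
        · rw [one_mul] at e; exact huc (e ▸ hzc)
      have hk1 : c ^ k ≠ 1 := by
        intro h
        apply huc
        have hc' : g * u * g⁻¹ ∈ Subgroup.center S := by
          rcases hve with e | e <;> rw [e, h]
          · exact one_mem _
          · rw [one_mul]; exact hzc
        have := (inferInstance : (Subgroup.center S).Normal).conj_mem _ hc' g⁻¹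
        simpa [mul_assoc] using this
      have hik := huniq i k hi hk hi1 hk1
      have hcase : g * u * g⁻¹ = u ∨ g * u * g⁻¹ = u * z := by
        rcases hue with e | e <;> rcases hve with e' | e'
        · left; rw [e', e, hik]
        · right; rw [e', e, hik]
        · right; rw [e', e, hik, mul_assoc, ← pow_two, hz, mul_one]
        · left; rw [e', e, hik]
      rcases hcase with e | e
      · left; exact mul_inv_eq_iff_eq_mul.1 e
      · right; exact mul_inv_eq_iff_eq_mul.1 e
    have hab : a * b = u * (b * a) := by rw [hu, commutatorElement_def]; group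
    have hba : b * a = u * (a * b) := by
      rw [hab, ← mul_assoc, ← pow_two, hu2, one_mul]
    rcases hconj a with ea | ea <;> rcases hconj b with eb | eb
    · exact huc (mem_center_of_closure hgen ea eb)
    · exact false_of_four hr hgen hzc hz1 hz hu2 hab ea eb
    · exact false_of_four hr (by rwa [Set.pair_comm]) hzc hz1 hz hu2 hba eb ea
    · -- replace `a` by `a * b`
      refine false_of_four hr (a := a * b) (b := b) ?_ hzc hz1 hz hu2 ?_ ?_ eb
      · refine top_le_iff.1 (hgen.ge.trans ((Subgroup.closure_le _).2 ?_))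
        rintro g (rfl | rfl)
        · simpa using mul_mem (Subgroup.subset_closure (k := ({g * b, b} : Set S)) (by simp : g * b ∈ _))
            (inv_mem (Subgroup.subset_closure (k := ({g * b, b} : Set S)) (by simp : b ∈ _)))
        · exact Subgroup.subset_closure (by simp)
      · rw [hab]
        simp only [mul_assoc]
        rw [hab]
      · rw [mul_assoc, eb, ← mul_assoc a, ← mul_assoc a u z, ea, mul_assoc (u * z) a z, hzc' a,
          mul_assoc u z (z * a), ← mul_assoc z z a, ← pow_two, hz, one_mul, mul_assoc]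
  · push Not at hsq
    obtain ⟨d₀, hd₀, hd₀2⟩ := hsq
    obtain ⟨k, hk⟩ := exists_pow_two_eq h2 d₀
    have hk2 : 2 ≤ k := by
      by_contra hlt
      refine hd₀2 (orderOf_dvd_iff_pow_eq_one.1 ?_)
      rw [hk]
      exact (pow_dvd_pow 2 (by omega : k ≤ 1)).trans (dvd_of_eq (pow_one 2))
    obtain ⟨k, rfl⟩ : ∃ l, k = l + 2 := ⟨k - 2, by omega⟩
    set e := d₀ ^ (2 ^ k) with he
    have heD : e ∈ commutator S := Subgroup.pow_mem _ hd₀ _
    set w := e ^ 2 with hw
    have hw1 : w ≠ 1 := by
      intro h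
      rw [hw, he, ← pow_mul, ← pow_succ] at h
      have := orderOf_dvd_of_pow_eq_one h
      rw [hk, Nat.pow_dvd_pow_iff_le_right (le_refl 2)] at this
      omega
    have hw2 : w ^ 2 = 1 := by
      rw [hw, he, ← pow_mul, ← pow_mul, show 2 ^ k * (2 * 2) = 2 ^ (k + 2) by ring, ← hk,
        pow_orderOf_eq_one]
    -- squares in `A` lie in `⟨c⟩`
    have hAsq : ∀ x ∈ A, x ^ 2 ∈ Subgroup.zpowers c := by
      intro x hx
      obtain ⟨i, rfl | rfl⟩ := hA x hx
      · exact Subgroup.pow_mem _ (Subgroup.zpow_mem _ (Subgroup.mem_zpowers c) i) 2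
      · rw [(show Commute (c ^ i) z from hzc' _).mul_pow, hz, mul_one]
        exact Subgroup.pow_mem _ (Subgroup.zpow_mem _ (Subgroup.mem_zpowers c) i) 2
    have hwz : w ≠ z := fun h => hzc0 (h ▸ hAsq e (hDA heD))
    have hwc : w ∈ Subgroup.center S := by
      refine Subgroup.mem_center_iff.2 fun g => ?_
      have hv : g * w * g⁻¹ ∈ Subgroup.zpowers c := by
        have := hAsq _ ((inferInstance : A.Normal).conj_mem _ (hDA heD) g)
        rwa [conj_pow] at this
      obtain ⟨i, hi⟩ := hv
      obtain ⟨l, hl⟩ := hAsq e (hDA heD)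
      have hzpow : ∀ m : ℤ, c ^ m ≠ 1 → (c ^ m) ^ 2 = 1 → ∀ n : ℤ, c ^ n ≠ 1 → (c ^ n) ^ 2 = 1 →
          c ^ m = c ^ n := by
        intro m hm hm2 n hn hn2
        rw [← zpow_natCast, ← zpow_mul, ← orderOf_dvd_iff_zpow_eq_one] at hm2 hn2
        rw [Ne, ← orderOf_dvd_iff_zpow_eq_one] at hm hn
        rw [← mul_inv_eq_one, ← zpow_neg, ← zpow_add, ← orderOf_dvd_iff_zpow_eq_one]
        obtain ⟨r, hr'⟩ := hm2
        obtain ⟨t, ht⟩ := hn2
        push_cast at hr' ht
        rcases Int.even_or_odd r with ⟨r', rfl⟩ | ⟨r', rfl⟩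
        · exact absurd ⟨r', by linarith⟩ hm
        rcases Int.even_or_odd t with ⟨t', rfl⟩ | ⟨t', rfl⟩
        · exact absurd ⟨t', by linarith⟩ hn
        exact ⟨r' - t', by linarith⟩
      simp only at hi hl
      have heq : g * w * g⁻¹ = w := by
        have hl' : c ^ l = w := hl
        rw [← hi, ← hl']
        refine hzpow i ?_ ?_ l ?_ ?_
        · rw [hi]; simpa using hw1
        · rw [hi, conj_pow, hw2, mul_one, mul_inv_cancel]
        · rw [hl']; exact hw1
        · rw [hl']; exact hw2
      exact mul_inv_eq_iff_eq_mul.1 heq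
    haveI := central_normal w hwc
    obtain ⟨M, hMn, hMc, hMq⟩ := hq (Subgroup.zpowers w) inferInstance
      (Subgroup.zpowers_ne_bot.2 hw1)
    haveI := hMn
    -- the derived subgroup is cyclic
    let π := QuotientGroup.mk' (Subgroup.zpowers w)
    have hDM : (commutator S).map π ≤ M := by
      obtain ⟨g, hg⟩ := hMq.exists_generator
      rw [Subgroup.map_le_iff_le_comap, commutator_def, Subgroup.commutator_le]
      intro x _ y _
      show π ⁅x, y⁆ ∈ M
      rw [← QuotientGroup.eq_one_iff, ← QuotientGroup.mk'_apply, map_commutatorElement,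
        map_commutatorElement, commutatorElement_eq_one_iff_mul_comm]
      obtain ⟨i, hi⟩ := hg (QuotientGroup.mk' M (π x))
      obtain ⟨l, hl⟩ := hg (QuotientGroup.mk' M (π y))
      rw [← hi, ← hl]
      exact ((Commute.refl g).zpow_zpow i l).eq
    haveI : IsCyclic ((commutator S).map π) :=
      isCyclic_of_surjective _ (Subgroup.subgroupOfEquivOfLe hDM).surjective
    obtain ⟨⟨_, d, hd, rfl⟩, hdgen⟩ := IsCyclic.exists_generator (α := (commutator S).map π)
    have hdecomp : ∀ x ∈ commutator S, ∃ i j : ℤ, x = d ^ i * w ^ j := by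
      intro x hx
      obtain ⟨i, hi⟩ := hdgen ⟨π x, x, hx, rfl⟩
      have hi' : π (d ^ i) = π x := by rw [map_zpow]; exact congrArg Subtype.val hi
      obtain ⟨y, hy, rfl⟩ := (QuotientGroup.mk'_eq_mk' _).1 hi'
      obtain ⟨j, rfl⟩ := hy
      exact ⟨i, j, rfl⟩
    have hwd : w ∈ Subgroup.zpowers d := by
      obtain ⟨i, j, hij⟩ := hdecomp e heD
      rw [hw, hij, (show Commute (d ^ i) (w ^ j) from
        (Subgroup.mem_center_iff.1 (Subgroup.zpow_mem _ hwc j) _)).mul_pow, ← zpow_natCast (w ^ j),
        ← zpow_mul, mul_comm j, zpow_mul, zpow_natCast, hw2, one_zpow, mul_one]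
      exact Subgroup.pow_mem _ (Subgroup.zpow_mem _ (Subgroup.mem_zpowers d) i) 2
    have hD' : commutator S ≤ Subgroup.zpowers d := fun x hx => by
      obtain ⟨i, j, rfl⟩ := hdecomp x hx
      exact mul_mem (Subgroup.zpow_mem _ (Subgroup.mem_zpowers d) i) (Subgroup.zpow_mem _ hwd j)
    exfalso
    -- a cyclic group has only one involution
    haveI : IsCyclic (Subgroup.zpowers d) := inferInstance
    haveI : Fintype (Subgroup.zpowers d) := Fintype.ofFinite _
    have hcard := IsCyclic.card_orderOf_eq_totient (α := Subgroup.zpowers d)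
      (d := 2) ?_
    swap
    · rw [Fintype.card_eq_nat_card]
      refine dvd_trans (dvd_of_eq ?_) (orderOf_dvd_natCard (⟨w, hwd⟩ : Subgroup.zpowers d))
      rw [Subgroup.orderOf_mk]; exact (orderOf_eq_prime hw2 hw1).symm
    rw [Nat.totient_prime Nat.prime_two, Finset.card_eq_one] at hcard
    obtain ⟨q, hq'⟩ := hcard
    have h1 : (⟨w, hwd⟩ : Subgroup.zpowers d) ∈ ({q} : Finset _) := by
      rw [← hq', Finset.mem_filter]
      exact ⟨Finset.mem_univ _, by rw [Subgroup.orderOf_mk]; exact orderOf_eq_prime hw2 hw1⟩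
    have h2' : (⟨z, hD' hzD⟩ : Subgroup.zpowers d) ∈ ({q} : Finset _) := by
      rw [← hq', Finset.mem_filter]
      exact ⟨Finset.mem_univ _, by rw [Subgroup.orderOf_mk]; exact orderOf_eq_prime hz hz1⟩
    rw [Finset.mem_singleton] at h1 h2'
    exact hwz (congrArg Subtype.val (h1.trans h2'.symm))

end Step

/-- A finite 2-group of sectional rank at most two is metacyclic. -/
theorem isMetacyclic_of_sectionalRank_le_two {S : Type u} [Group S] [Finite S] (h2 : IsPGroup 2 S)
    (hr : Cfsg.SectionalPRankLE 2 2 S) : Cfsg.IsMetacyclic S := by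
  suffices key : ∀ (n : ℕ) (T : Type u) [Group T] [Finite T], Nat.card T = n → IsPGroup 2 T →
      Cfsg.SectionalPRankLE 2 2 T → Cfsg.IsMetacyclic T from key _ S rfl h2 hr
  intro n
  induction n using Nat.strong_induction_on with
  | _ n ih =>
    intro T _ _ hn h2 hr
    refine isMetacyclic_step h2 hr fun Z hZ hZ1 => ?_
    refine ih _ ?_ (T ⧸ Z) rfl (h2.to_quotient Z)
      (sectionalPRankLE_of_surjective hr _ (QuotientGroup.mk'_surjective Z))
    rw [← hn, ← Subgroup.index_eq_card, ← Z.card_mul_index]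
    exact lt_mul_left (Nat.pos_of_ne_zero Z.index_ne_zero_of_finite)
      ((Subgroup.one_lt_card_iff_ne_bot Z).2 hZ1)

end CfsgLib.TwoGroups85
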