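import Mathlib
import Cfsg.Agent.Lib.TwoGroups85.SectionalRankTwo
import Cfsg.Agent.Lib.Coprime.Basic
import Cfsg.Agent.Lib.Coprime.Action

/-!
Two non-abelian subgroups with centres of order two in a 2-group of sectional rank at most four.
-/

set_option autoImplicit false
set_option linter.style.haveILetI false
set_option linter.unusedSectionVars false

open scoped commutatorElement

namespace CfsgLib.TwoGroups85

universe u

variable {S : Type u} [Group S]

/-- A surjective image of a subgroup inherits the rank bound. -/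
theorem pRankLE_of_section {p k : ℕ} {G : Type*} [Group G] {Q : Type*} [Group Q]
    (hr : Cfsg.SectionalPRankLE p k G) (K : Subgroup G) (f : K →* Q) (hf : Function.Surjective f) :
    Cfsg.PRankLE p k Q := by
  intro A hA hAp
  let e := QuotientGroup.quotientKerEquivOfSurjective f hf
  have h := hr K f.ker (A.map e.symm.toMonoidHom)
    ⟨⟨fun x y => by
      obtain ⟨a, ha, hxa⟩ := x.2
      obtain ⟨b, hb, hyb⟩ := y.2
      apply Subtype.ext
      rw [Subgroup.coe_mul, Subgroup.coe_mul, ← hxa, ← hyb, ← map_mul, ← map_mul,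
        show a * b = b * a from congrArg Subtype.val (hA.is_comm.comm ⟨a, ha⟩ ⟨b, hb⟩)]⟩⟩
    (by
      rintro x ⟨a, ha, rfl⟩
      rw [← map_pow, hAp a ha, map_one])
  rwa [Subgroup.card_map_of_injective e.symm.injective] at h

variable [Finite S]

theorem four_mul_card_frattini_le {P : Type u} [Group P] [Finite P] (h2 : IsPGroup 2 P)
    (hna : ¬ IsMulCommutative P) : 4 * Nat.card (frattini P) ≤ Nat.card P := by
  by_contra hlt
  apply hna
  have hgen : ∃ a : P, Subgroup.zpowers a ⊔ frattini P = ⊤ := by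
    by_cases hall : frattini P = ⊤
    · exact ⟨1, by rw [hall, sup_top_eq]⟩
    obtain ⟨a, -, ha⟩ := SetLike.exists_of_lt (lt_top_iff_ne_top.2 hall)
    refine ⟨a, ?_⟩
    by_contra hne
    have h1 : frattini P < Subgroup.zpowers a ⊔ frattini P := lt_of_le_not_ge le_sup_right
      fun h => ha (h (Subgroup.mem_sup_left (Subgroup.mem_zpowers a)))
    have h2 := two_mul_card_le h1
    have h3 := two_mul_card_le (lt_top_iff_ne_top.2 hne)
    rw [Subgroup.card_top] at h3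
    omega
  obtain ⟨a, ha⟩ := hgen
  haveI : IsCyclic P := isCyclic_iff_exists_zpowers_eq_top.2 ⟨a, frattini_nongenerating ha⟩
  exact IsCyclic.isMulCommutative

/-- The generator of a centre of order two. -/
theorem exists_center_generator (h2 : IsPGroup 2 S) (P : Subgroup S) (hP : ¬ IsMulCommutative ↥P)
    (hZ : Nat.card ↥(Subgroup.center ↥P) = 2) :
    ∃ z : S, z ∈ P ∧ z ≠ 1 ∧ z ^ 2 = 1 ∧ z ∈ ⁅P, P⁆ ∧ (∀ x ∈ P, x * z = z * x) ∧
      (∀ x ∈ P, (∀ y ∈ P, y * x = x * y) → x = 1 ∨ x = z) ∧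
      (Subgroup.center ↥P).map P.subtype = Subgroup.zpowers z := by
  haveI : (commutator ↥P).Normal := inferInstance
  have hD : commutator ↥P ≠ ⊥ := fun h => hP ⟨⟨fun a b => by
    have h1 : ⁅a, b⁆ ∈ commutator ↥P :=
      Subgroup.commutator_mem_commutator (Subgroup.mem_top a) (Subgroup.mem_top b)
    rw [h, Subgroup.mem_bot, commutatorElement_eq_one_iff_mul_comm] at h1
    exact h1⟩⟩
  obtain ⟨z, hzD, hzc, hz1, hz2⟩ := exists_central_involution_mem (h2.to_subgroup P) hD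
  have hZe : Subgroup.center ↥P = Subgroup.zpowers z := by
    refine (Subgroup.eq_of_le_of_card_ge (Subgroup.zpowers_le.2 hzc) ?_).symm
    rw [hZ, Nat.card_zpowers, orderOf_eq_prime hz2 hz1]
  refine ⟨z, z.2, fun h => hz1 (Subtype.ext h), congrArg Subtype.val hz2, ?_, ?_, ?_, ?_⟩
  · have h := Subgroup.mem_map_of_mem P.subtype hzD
    rwa [commutator_def, Subgroup.map_commutator, ← MonoidHom.range_eq_map, Subgroup.range_subtype] at h
  · exact fun x hx => congrArg Subtype.val (Subgroup.mem_center_iff.1 hzc ⟨x, hx⟩)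
  · intro x hx hcen
    have h : (⟨x, hx⟩ : P) ∈ Subgroup.center ↥P :=
      Subgroup.mem_center_iff.2 fun y => Subtype.ext (hcen y y.2)
    rw [hZe] at h
    rcases zpowers_cases hz2 h with e | e
    · exact Or.inl (congrArg Subtype.val e)
    · exact Or.inr (congrArg Subtype.val e)
  · rw [hZe, MonoidHom.map_zpowers]; rfl

/-- Two subgroups normalised by `T`, with different centres of order two. -/
theorem pair_disjoint (h2 : IsPGroup 2 S) {T P Q : Subgroup S} (hPT : P ≤ T) (hQT : Q ≤ T)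
    (hTP : ∀ t ∈ T, ∀ x ∈ P, t * x * t⁻¹ ∈ P) (hTQ : ∀ t ∈ T, ∀ x ∈ Q, t * x * t⁻¹ ∈ Q)
    {z z' : S} (hz : ∀ x ∈ P, (∀ y ∈ P, y * x = x * y) → x = 1 ∨ x = z)
    (hz' : ∀ x ∈ Q, (∀ y ∈ Q, y * x = x * y) → x = 1 ∨ x = z') (hne : z ≠ z') :
    P ⊓ Q = ⊥ ∧ ∀ x ∈ P, ∀ y ∈ Q, x * y = y * x := by
  have hbot : P ⊓ Q = ⊥ := by
    by_contra hne'
    set J := (P ⊓ Q).subgroupOf T with hJ
    haveI : J.Normal := ⟨fun n hn t => ⟨hTP t t.2 n hn.1, hTQ t t.2 n hn.2⟩⟩
    have hJ1 : J ≠ ⊥ := fun h => hne' (by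
      rw [← Subgroup.map_subgroupOf_eq_of_le (inf_le_left.trans hPT : P ⊓ Q ≤ T), ← hJ, h,
        Subgroup.map_bot])
    obtain ⟨w, hwJ, hwc, hw1, -⟩ := exists_central_involution_mem (h2.to_subgroup T) hJ1
    have hw1' : (w : S) ≠ 1 := fun h => hw1 (Subtype.ext h)
    have hc : ∀ t ∈ T, t * (w : S) = w * t := fun t ht =>
      congrArg Subtype.val (Subgroup.mem_center_iff.1 hwc ⟨t, ht⟩)
    have e1 := (hz w hwJ.1 fun y hy => hc y (hPT hy)).resolve_left hw1'
    have e2 := (hz' w hwJ.2 fun y hy => hc y (hQT hy)).resolve_left hw1'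
    exact hne (e1.symm.trans e2)
  refine ⟨hbot, fun x hx y hy => ?_⟩
  have h1 : ⁅x, y⁆ ∈ P ⊓ Q := by
    refine ⟨?_, ?_⟩
    · have := P.mul_mem hx (hTP y (hQT hy) _ (P.inv_mem hx))
      simpa [commutatorElement_def, mul_assoc] using this
    · have := Q.mul_mem (hTQ x (hPT hx) _ hy) (Q.inv_mem hy)
      simpa [commutatorElement_def] using this
  rwa [hbot, Subgroup.mem_bot, commutatorElement_eq_one_iff_mul_comm] at h1

/-- In sectional rank four, the centraliser of such a pair lies in the product. -/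
theorem centralizer_pair_le (h2 : IsPGroup 2 S) (hr : Cfsg.SectionalPRankLE 2 4 S) {P Q : Subgroup S}
    (hP : ¬ IsMulCommutative ↥P) (hQ : ¬ IsMulCommutative ↥Q) (hbot : P ⊓ Q = ⊥)
    (hcomm : ∀ x ∈ P, ∀ y ∈ Q, x * y = y * x) {z z' : S}
    (hzD : z ∈ ⁅P, P⁆) (hzD' : z' ∈ ⁅Q, Q⁆) (hz : ∀ x ∈ P, (∀ y ∈ P, y * x = x * y) → x = 1 ∨ x = z)
    (hz' : ∀ x ∈ Q, (∀ y ∈ Q, y * x = x * y) → x = 1 ∨ x = z') :
    Subgroup.centralizer ((P ⊔ Q : Subgroup S) : Set S) ≤ P ⊔ Q := by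
  haveI := Fact.mk Nat.prime_two
  by_contra hnot
  obtain ⟨c, hcC, hc, hc2⟩ : ∃ c ∈ Subgroup.centralizer ((P ⊔ Q : Subgroup S) : Set S),
      c ∉ P ⊔ Q ∧ c ^ 2 ∈ P ⊔ Q := by
    obtain ⟨c, hcC, hc⟩ := SetLike.not_le_iff_exists.1 hnot
    obtain ⟨k, hk⟩ := h2 c
    classical
    have hex : ∃ i, c ^ 2 ^ i ∈ P ⊔ Q := ⟨k, by rw [hk]; exact one_mem _⟩
    obtain ⟨i, hi⟩ : ∃ i, Nat.find hex = i + 1 := ⟨Nat.find hex - 1, by
      have : Nat.find hex ≠ 0 := fun h => hc (by simpa [h] using Nat.find_spec hex)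
      omega⟩
    refine ⟨c ^ 2 ^ i, Subgroup.pow_mem _ hcC _, Nat.find_min hex (by omega), ?_⟩
    rw [← pow_mul, ← pow_succ, ← hi]
    exact Nat.find_spec hex
  have hcP : ∀ x ∈ P, x * c = c * x := fun x hx =>
    Subgroup.mem_centralizer_iff.1 hcC x (Subgroup.mem_sup_left hx)
  have hcQ : ∀ x ∈ Q, x * c = c * x := fun x hx =>
    Subgroup.mem_centralizer_iff.1 hcC x (Subgroup.mem_sup_right hx)
  set FP := (frattini ↥P).map P.subtype with hFP
  set FQ := (frattini ↥Q).map Q.subtype with hFQ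
  have hFPle : FP ≤ P := Subgroup.map_subtype_le _
  have hFQle : FQ ≤ Q := Subgroup.map_subtype_le _
  have hPsq : ∀ x ∈ P, x ^ 2 ∈ FP := fun x hx =>
    ⟨_, CfsgLib.PGroup.pow_mem_frattini (h2.to_subgroup P) (⟨x, hx⟩ : P), rfl⟩
  have hQsq : ∀ x ∈ Q, x ^ 2 ∈ FQ := fun x hx =>
    ⟨_, CfsgLib.PGroup.pow_mem_frattini (h2.to_subgroup Q) (⟨x, hx⟩ : Q), rfl⟩
  have hPc : ∀ x ∈ P, ∀ y ∈ P, ⁅x, y⁆ ∈ FP := fun x hx y hy =>
    ⟨_, CfsgLib.PGroup.commutator_le_frattini (h2.to_subgroup P)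
      (Subgroup.commutator_mem_commutator (Subgroup.mem_top (⟨x, hx⟩ : P))
        (Subgroup.mem_top (⟨y, hy⟩ : P))), rfl⟩
  have hQc : ∀ x ∈ Q, ∀ y ∈ Q, ⁅x, y⁆ ∈ FQ := fun x hx y hy =>
    ⟨_, CfsgLib.PGroup.commutator_le_frattini (h2.to_subgroup Q)
      (Subgroup.commutator_mem_commutator (Subgroup.mem_top (⟨x, hx⟩ : Q))
        (Subgroup.mem_top (⟨y, hy⟩ : Q))), rfl⟩
  have hPn : ∀ x ∈ P, ∀ f ∈ FP, x * f * x⁻¹ ∈ FP := by
    rintro x hx _ ⟨f, hf, rfl⟩
    exact ⟨_, (inferInstance : (frattini ↥P).Normal).conj_mem f hf ⟨x, hx⟩, rfl⟩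
  have hQn : ∀ x ∈ Q, ∀ f ∈ FQ, x * f * x⁻¹ ∈ FQ := by
    rintro x hx _ ⟨f, hf, rfl⟩
    exact ⟨_, (inferInstance : (frattini ↥Q).Normal).conj_mem f hf ⟨x, hx⟩, rfl⟩
  set W := P ⊔ Q ⊔ Subgroup.zpowers c with hW
  set F := FP ⊔ FQ with hF
  have hgenW : W = Subgroup.closure ((P : Set S) ∪ (Q : Set S) ∪ {c}) := by
    rw [Subgroup.closure_union, Subgroup.closure_union, Subgroup.closure_eq, Subgroup.closure_eq,
      ← Subgroup.zpowers_eq_closure]
  have hFW : F ≤ W := sup_le (hFPle.trans (le_sup_left.trans le_sup_left))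
    (hFQle.trans (le_sup_right.trans le_sup_left))
  have hWn : W ≤ Subgroup.normalizer (F : Set S) := by
    rw [hgenW, Subgroup.closure_le]
    rintro g hg
    refine CfsgLib.Coprime.mem_normalizer_of_forall_conj fun f hf => ?_
    have key : F ≤ F.comap (MulAut.conj g).toMonoidHom := by
      rw [hF, sup_le_iff]
      constructor <;> intro f hf <;> show g * f * g⁻¹ ∈ FP ⊔ FQ
      · refine Subgroup.mem_sup_left ?_
        rcases hg with (hg | hg) | hg
        · exact hPn g hg f hf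
        · rw [← hcomm f (hFPle hf) g hg, mul_inv_cancel_right]; exact hf
        · rw [hg, ← hcP f (hFPle hf), mul_inv_cancel_right]; exact hf
      · refine Subgroup.mem_sup_right ?_
        rcases hg with (hg | hg) | hg
        · rw [hcomm g hg f (hFQle hf), mul_inv_cancel_right]; exact hf
        · exact hQn g hg f hf
        · rw [hg, ← hcQ f (hFQle hf), mul_inv_cancel_right]; exact hf
    exact key hf
  haveI hFn : (F.subgroupOf W).Normal := Subgroup.normal_subgroupOf_of_le_normalizer hWn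
  set π := QuotientGroup.mk' (F.subgroupOf W) with hπ
  have hπ1 : ∀ (x : S) (hx : x ∈ W), x ∈ F → π ⟨x, hx⟩ = 1 := fun x hx h =>
    (QuotientGroup.eq_one_iff _).2 h
  have hc2F : c ^ 2 ∈ F := by
    obtain ⟨a, ha, b, hb, hab⟩ := CfsgLib.Coprime.exists_mul_of_mem_sup (H := P) (N := Q)
      (fun x hx => CfsgLib.Coprime.mem_normalizer_of_forall_conj fun y hy => by
        rwa [hcomm x hx y hy, mul_inv_cancel_right]) hc2
    have hacen : ∀ y ∈ P, y * a = a * y := by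
      intro y hy
      have h1 : y * (c ^ 2) = c ^ 2 * y := ((show Commute y c from hcP y hy).pow_right 2).eq
      rw [hab, ← mul_assoc, mul_assoc a b y, ← hcomm y hy b hb, ← mul_assoc] at h1
      exact mul_right_cancel h1
    have hbcen : ∀ y ∈ Q, y * b = b * y := by
      intro y hy
      have h1 : y * (c ^ 2) = c ^ 2 * y := ((show Commute y c from hcQ y hy).pow_right 2).eq
      rw [hab, ← mul_assoc, ← hcomm a ha y hy, mul_assoc, mul_assoc] at h1
      exact mul_left_cancel h1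
    have hFP' : a ∈ FP := by
      rcases hz a ha hacen with e | e <;> rw [e]
      · exact one_mem _
      · exact (Subgroup.commutator_le.2 hPc) hzD
    have hFQ' : b ∈ FQ := by
      rcases hz' b hb hbcen with e | e <;> rw [e]
      · exact one_mem _
      · exact (Subgroup.commutator_le.2 hQc) hzD'
    rw [hab]
    exact Subgroup.mul_mem_sup hFP' hFQ'
  have hsq : ∀ g ∈ (P : Set S) ∪ (Q : Set S) ∪ {c}, g ^ 2 ∈ F := by
    rintro g ((hg | hg) | hg)
    · exact Subgroup.mem_sup_left (hPsq g hg)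
    · exact Subgroup.mem_sup_right (hQsq g hg)
    · rw [Set.mem_singleton_iff] at hg; rw [hg]; exact hc2F
  have hcm : ∀ g ∈ (P : Set S) ∪ (Q : Set S) ∪ {c}, ∀ h ∈ (P : Set S) ∪ (Q : Set S) ∪ {c},
      ⁅g, h⁆ ∈ F := by
    have h1 : ∀ {g h : S}, g * h = h * g → ⁅g, h⁆ ∈ F := fun e => by
      rw [commutatorElement_eq_one_iff_mul_comm.2 e]; exact one_mem _
    rintro g ((hg | hg) | hg) h ((hh | hh) | hh)
    · exact Subgroup.mem_sup_left (hPc g hg h hh)
    · exact h1 (hcomm g hg h hh)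
    · rw [Set.mem_singleton_iff] at hh; subst hh; exact h1 (hcP g hg)
    · exact h1 (hcomm h hh g hg).symm
    · exact Subgroup.mem_sup_right (hQc g hg h hh)
    · rw [Set.mem_singleton_iff] at hh; subst hh; exact h1 (hcQ g hg)
    · rw [Set.mem_singleton_iff] at hg; subst hg; exact h1 (hcP h hh).symm
    · rw [Set.mem_singleton_iff] at hg; subst hg; exact h1 (hcQ h hh).symm
    · rw [Set.mem_singleton_iff] at hg hh; subst hg hh; exact h1 rfl
  have hgenle : ((P : Set S) ∪ (Q : Set S) ∪ {c}) ⊆ W := hgenW ▸ Subgroup.subset_closure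
  have hqc : ∀ (x : S) (hx : x ∈ W) (y : S) (hy : y ∈ W),
      π ⟨x, hx⟩ * π ⟨y, hy⟩ = π ⟨y, hy⟩ * π ⟨x, hx⟩ := by
    intro x hx y hy
    have hx' : x ∈ Subgroup.closure ((P : Set S) ∪ (Q : Set S) ∪ {c}) := hgenW ▸ hx
    induction hx' using Subgroup.closure_induction with
    | mem g hg =>
      have hy' : y ∈ Subgroup.closure ((P : Set S) ∪ (Q : Set S) ∪ {c}) := hgenW ▸ hy
      induction hy' using Subgroup.closure_induction with
      | mem h hh =>
        rw [← commutatorElement_eq_one_iff_mul_comm, ← map_commutatorElement]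
        exact (QuotientGroup.eq_one_iff _).2 (hcm g hg h hh)
      | one => rw [show (⟨1, hy⟩ : W) = 1 from rfl, map_one, one_mul, mul_one]
      | mul u v hu hv iu iv =>
        have hu' : u ∈ W := hgenW ▸ hu
        have hv' : v ∈ W := hgenW ▸ hv
        rw [show (⟨u * v, hy⟩ : W) = ⟨u, hu'⟩ * ⟨v, hv'⟩ from rfl, map_mul]
        exact ((show Commute _ _ from iu hu').mul_right (iv hv')).eq
      | inv u hu iu =>
        have hu' : u ∈ W := hgenW ▸ hu
        rw [show (⟨u⁻¹, hy⟩ : W) = (⟨u, hu'⟩ : W)⁻¹ from rfl, map_inv]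
        exact (show Commute _ _ from iu hu').inv_right.eq
    | one => rw [show (⟨1, hx⟩ : W) = 1 from rfl, map_one, one_mul, mul_one]
    | mul u v hu hv iu iv =>
      have hu' : u ∈ W := hgenW ▸ hu
      have hv' : v ∈ W := hgenW ▸ hv
      rw [show (⟨u * v, hx⟩ : W) = ⟨u, hu'⟩ * ⟨v, hv'⟩ from rfl, map_mul]
      exact ((show Commute _ _ from iu hu').mul_left (iv hv')).eq
    | inv u hu iu =>
      have hu' : u ∈ W := hgenW ▸ hu
      rw [show (⟨u⁻¹, hx⟩ : W) = (⟨u, hu'⟩ : W)⁻¹ from rfl, map_inv]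
      exact (show Commute _ _ from iu hu').inv_left.eq
  have hqsq : ∀ (x : S) (hx : x ∈ W), π ⟨x, hx⟩ ^ 2 = 1 := by
    intro x hx
    have hx' : x ∈ Subgroup.closure ((P : Set S) ∪ (Q : Set S) ∪ {c}) := hgenW ▸ hx
    induction hx' using Subgroup.closure_induction with
    | mem g hg => rw [← map_pow]; exact (QuotientGroup.eq_one_iff _).2 (hsq g hg)
    | one => rw [show (⟨1, hx⟩ : W) = 1 from rfl, map_one, one_pow]
    | mul u v hu hv iu iv =>
      have hu' : u ∈ W := hgenW ▸ hu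
      have hv' : v ∈ W := hgenW ▸ hv
      rw [show (⟨u * v, hx⟩ : W) = ⟨u, hu'⟩ * ⟨v, hv'⟩ from rfl, map_mul,
        (show Commute _ _ from hqc u hu' v hv').mul_pow, iu hu', iv hv', one_mul]
    | inv u hu iu =>
      have hu' : u ∈ W := hgenW ▸ hu
      rw [show (⟨u⁻¹, hx⟩ : W) = (⟨u, hu'⟩ : W)⁻¹ from rfl, map_inv, inv_pow, iu hu', inv_one]
  have hbound := hr W (F.subgroupOf W) ⊤
    ⟨⟨fun a b => Subtype.ext (by
      obtain ⟨⟨x, hx⟩, hxa⟩ := QuotientGroup.mk'_surjective _ (a : W ⧸ F.subgroupOf W)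
      obtain ⟨⟨y, hy⟩, hyb⟩ := QuotientGroup.mk'_surjective _ (b : W ⧸ F.subgroupOf W)
      show (a : W ⧸ F.subgroupOf W) * b = b * a
      rw [← hxa, ← hyb]; exact hqc x hx y hy)⟩⟩
    (fun a _ => by
      obtain ⟨⟨x, hx⟩, rfl⟩ := QuotientGroup.mk'_surjective _ a
      exact hqsq x hx)
  rw [Subgroup.card_top] at hbound
  have hFQn : FP ≤ Subgroup.normalizer (FQ : Set S) := fun x hx =>
    CfsgLib.Coprime.mem_normalizer_of_forall_conj fun y hy => by
      rwa [hcomm x (hFPle hx) y (hFQle hy), mul_inv_cancel_right]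
  have hQn' : P ≤ Subgroup.normalizer (Q : Set S) := fun x hx =>
    CfsgLib.Coprime.mem_normalizer_of_forall_conj fun y hy => by
      rwa [hcomm x hx y hy, mul_inv_cancel_right]
  have hcardPQ := CfsgLib.Coprime.card_sup_of_disjoint hQn' (by rwa [inf_comm] : Q ⊓ P = ⊥)
  have hcardF : Nat.card F = Nat.card FP * Nat.card FQ := by
    rw [hF]
    refine CfsgLib.Coprime.card_sup_of_disjoint hFQn (le_bot_iff.1 ?_)
    exact (inf_le_inf hFQle hFPle).trans (by rw [inf_comm, hbot])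
  have hFPc : 4 * Nat.card FP ≤ Nat.card P := by
    rw [hFP, Subgroup.card_map_of_injective P.subtype_injective]
    exact four_mul_card_frattini_le (h2.to_subgroup P) hP
  have hFQc : 4 * Nat.card FQ ≤ Nat.card Q := by
    rw [hFQ, Subgroup.card_map_of_injective Q.subtype_injective]
    exact four_mul_card_frattini_le (h2.to_subgroup Q) hQ
  have hlt : P ⊔ Q < W := lt_of_le_not_ge le_sup_left fun h =>
    hc (h (Subgroup.mem_sup_right (Subgroup.mem_zpowers c)))
  have h32 := two_mul_card_le hlt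
  have hWF := (F.subgroupOf W).card_mul_index
  rw [Subgroup.index_eq_card, Nat.card_congr (Subgroup.subgroupOfEquivOfLe hFW).toEquiv] at hWF
  have hposP : 0 < Nat.card FP := Nat.card_pos
  have hposQ : 0 < Nat.card FQ := Nat.card_pos
  have h16 : (2 : ℕ) ^ 4 = 16 := by norm_num
  rw [h16] at hbound
  nlinarith [Nat.mul_le_mul hFPc hFQc, Nat.mul_le_mul_left (Nat.card F) hbound, hposP, hposQ,
    Nat.mul_pos hposP hposQ]

/-- The three-subgroup contradiction: three distinct centres are impossible. -/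
theorem false_of_three (h2 : IsPGroup 2 S) (hr : Cfsg.SectionalPRankLE 2 4 S) {T P Q R : Subgroup S}
    (hPT : P ≤ T) (hQT : Q ≤ T) (hRT : R ≤ T)
    (hTP : ∀ t ∈ T, ∀ x ∈ P, t * x * t⁻¹ ∈ P) (hTQ : ∀ t ∈ T, ∀ x ∈ Q, t * x * t⁻¹ ∈ Q)
    (hTR : ∀ t ∈ T, ∀ x ∈ R, t * x * t⁻¹ ∈ R)
    (hP : ¬ IsMulCommutative ↥P) (hQ : ¬ IsMulCommutative ↥Q) (hR : ¬ IsMulCommutative ↥R)
    {z z' w : S} (hzD : z ∈ ⁅P, P⁆) (hzD' : z' ∈ ⁅Q, Q⁆)
    (hz : ∀ x ∈ P, (∀ y ∈ P, y * x = x * y) → x = 1 ∨ x = z)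
    (hz' : ∀ x ∈ Q, (∀ y ∈ Q, y * x = x * y) → x = 1 ∨ x = z')
    (hw : ∀ x ∈ R, (∀ y ∈ R, y * x = x * y) → x = 1 ∨ x = w)
    (h1 : z ≠ z') (h2' : z ≠ w) (h3 : z' ≠ w) : False := by
  obtain ⟨hb, hc⟩ := pair_disjoint h2 hPT hQT hTP hTQ hz hz' h1
  obtain ⟨-, hcPR⟩ := pair_disjoint h2 hPT hRT hTP hTR hz hw h2'
  obtain ⟨-, hcQR⟩ := pair_disjoint h2 hQT hRT hTQ hTR hz' hw h3
  have hle : R ≤ Subgroup.centralizer ((P ⊔ Q : Subgroup S) : Set S) := by
    have : P ⊔ Q ≤ Subgroup.centralizer (R : Set S) := sup_le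
      (fun x hx => Subgroup.mem_centralizer_iff.2 fun y hy => (hcPR x hx y hy).symm)
      (fun x hx => Subgroup.mem_centralizer_iff.2 fun y hy => (hcQR x hx y hy).symm)
    exact fun y hy => Subgroup.mem_centralizer_iff.2 fun x hx =>
      (Subgroup.mem_centralizer_iff.1 (this hx) y hy).symm
  have hRPQ := hle.trans (centralizer_pair_le h2 hr hP hQ hb hc hzD hzD' hz hz')
  exact hR ⟨⟨fun a b => Subtype.ext
    (Subgroup.mem_centralizer_iff.1 (hle b.2) a (hRPQ a.2))⟩⟩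

end CfsgLib.TwoGroups85
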