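import Cfsg.Agent.Lib.TwoGroups85.WreathModel
import Cfsg.Agent.Lib.TwoGroups85.RankFourPairs

/-!
Two-groups of sectional rank at most four properly containing `D₈ ≀ C₂`.
-/

set_option autoImplicit false
set_option linter.style.haveILetI false
set_option linter.unusedSectionVars false
set_option maxRecDepth 100000

open scoped commutatorElement

namespace CfsgLib.TwoGroups85

namespace WreathDih

/-- The base. -/
def baseSub : Subgroup WreathDih where
  carrier := {w | w.s = false}
  one_mem' := rfl
  mul_mem' := fun {a b} ha hb => by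
    show xor a.s b.s = false
    rw [show a.s = false from ha, show b.s = false from hb]; rfl
  inv_mem' := fun {a} ha => ha

theorem mem_baseSub {w : WreathDih} : w ∈ baseSub ↔ w.s = false := Iff.rfl

theorem card_baseSub : Nat.card baseSub = 64 := by
  rw [← SetLike.coe_sort_coe, Nat.card_coe_set_eq, ← base_card, ← Set.ncard_coe_finset]
  congr 1
  ext w
  simp [baseSub]

/-- The left factor. -/
def leftSub : Subgroup WreathDih where
  carrier := {w | w.s = false ∧ w.r = 1}
  one_mem' := ⟨rfl, rfl⟩
  mul_mem' := by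
    rintro ⟨a, b, i⟩ ⟨c, d, j⟩ ⟨rfl, rfl⟩ ⟨rfl, rfl⟩
    simp [mul_def]
  inv_mem' := by
    rintro ⟨a, b, i⟩ ⟨rfl, rfl⟩
    simp [inv_def]

/-- The right factor. -/
def rightSub : Subgroup WreathDih where
  carrier := {w | w.s = false ∧ w.l = 1}
  one_mem' := ⟨rfl, rfl⟩
  mul_mem' := by
    rintro ⟨a, b, i⟩ ⟨c, d, j⟩ ⟨rfl, rfl⟩ ⟨rfl, rfl⟩
    simp [mul_def]
  inv_mem' := by
    rintro ⟨a, b, i⟩ ⟨rfl, rfl⟩
    simp [inv_def]

variable (φ : MulAut WreathDih)

theorem centCard_aut (w : WreathDih) : centCard (φ w) = centCard w := by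
  unfold centCard
  refine (Finset.card_equiv φ.toEquiv fun v => ?_).symm
  simp only [Finset.mem_filter, Finset.mem_univ, true_and, MulEquiv.toEquiv_eq_coe,
    MulEquiv.coe_toEquiv]
  rw [← map_mul, ← map_mul, φ.injective.eq_iff]

theorem aut_base {w : WreathDih} (h : w.s = false) : (φ w).s = false := by
  have key : ∀ a : DihedralGroup 4,
      φ ⟨a, 1, false⟩ ∈ baseSub ∧ φ ⟨1, a, false⟩ ∈ baseSub := fun a =>
    ⟨centCard_base _ ((centCard_aut φ _).symm ▸ (centCard_factor a).1),
      centCard_base _ ((centCard_aut φ _).symm ▸ (centCard_factor a).2)⟩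
  rw [base_split w h, map_mul]
  exact mul_mem (key w.l).1 (key w.r).2

theorem aut_outer {w : WreathDih} (h : w.s = true) : (φ w).s = true := by
  by_contra hne
  have h1 := aut_base φ.symm (Bool.eq_false_iff.2 hne)
  rw [MulEquiv.symm_apply_apply, h] at h1
  exact Bool.noConfusion h1

theorem aut_inZ {w : WreathDih} (h : InZ w) : InZ (φ w) := by
  have key : ∀ x : WreathDih, x.s = false → x * φ w = φ w * x := fun x hx => by
    have h1 := congrArg φ (inZ_comm w h _ (aut_base φ.symm hx))
    simpa only [map_mul, MulEquiv.apply_symm_apply] using h1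
  exact center_base _ (aut_base φ (inZ_base w h)) (key sl rfl) (key tl rfl) (key sr' rfl) (key tr' rfl)

theorem aut_zc : φ zc = zc := by
  refine (center_cases (φ zc) fun v => ?_).resolve_left fun h => ?_
  · have h1 := congrArg φ (zc_central (φ.symm v))
    simpa only [map_mul, MulEquiv.apply_symm_apply] using h1
  · exact absurd (φ.map_eq_one_iff.1 h) (by decide)

theorem aut_zl : φ zl = zl ∨ φ zl = zr := by
  rcases aut_inZ φ (w := zl) (by decide) with h | h | h | h
  · exact absurd (φ.map_eq_one_iff.1 h) (by decide)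
  · exact .inl h
  · exact .inr h
  · exact absurd (φ.injective (h.trans (aut_zc φ).symm)) (by decide)

theorem aut_class : ∃ i, InZ (φ sl * (cls i)⁻¹) := by
  have hcm : ∀ v : WreathDih, v.s = false →
      v * φ sl * v⁻¹ * (φ sl)⁻¹ = 1 ∨ v * φ sl * v⁻¹ * (φ sl)⁻¹ = φ zl := fun v hv => by
    rcases sl_comm _ (aut_base φ.symm hv) with h | h
    · refine .inl ?_
      have h1 := congrArg φ h
      simpa only [map_mul, map_inv, MulEquiv.apply_symm_apply, map_one] using h1
    · refine .inr ?_
      have h1 := congrArg φ h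
      simpa only [map_mul, map_inv, MulEquiv.apply_symm_apply] using h1
  have hsq : φ sl * φ sl = 1 := by rw [← map_mul, show sl * sl = 1 by decide, map_one]
  refine (cls_cases (φ sl) (aut_base φ rfl) hsq ?_).resolve_left fun h => ?_
  · rcases aut_zl φ with h | h <;> rw [h] at hcm
    · exact .inl hcm
    · exact .inr hcm
  · have h1 := aut_inZ φ.symm h
    rw [MulEquiv.symm_apply_apply] at h1
    exact absurd h1 (by decide)

theorem aut_congr_mul {x y : WreathDih} (hx : x.s = false) (h1 : InZ (φ x * x⁻¹))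
    (h2 : InZ (φ y * y⁻¹)) : InZ (φ (x * y) * (x * y)⁻¹) := by
  have h3 := inZ_comm _ h2 _ (aut_base φ hx)
  have e : φ (x * y) * (x * y)⁻¹ = (φ y * y⁻¹) * (φ x * x⁻¹) := by
    calc φ (x * y) * (x * y)⁻¹ = (φ x * (φ y * y⁻¹)) * x⁻¹ := by rw [map_mul]; group
      _ = ((φ y * y⁻¹) * φ x) * x⁻¹ := by rw [h3]
      _ = _ := by group
  rw [e]
  exact inZ_mul _ h2 _ h1

theorem aut_congr_pow {x : WreathDih} (hx : x.s = false) (h : InZ (φ x * x⁻¹)) (m : ℕ) :
    InZ (φ (x ^ m) * (x ^ m)⁻¹) := by
  induction m with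
  | zero => simp only [pow_zero, map_one, inv_one, mul_one]; exact .inl rfl
  | succ m ih =>
    rw [pow_succ']
    exact aut_congr_mul φ hx h ih

/-- An automorphism fixing the class of one reflection fixes the base modulo its centre. -/
theorem aut_trivial (h : InZ (φ sl * sl⁻¹)) :
    φ zl = zl ∧ ∀ w : WreathDih, w.s = false → InZ (φ w * w⁻¹) := by
  have hv : (φ tau).s = true := aut_outer φ rfl
  have hv2 : φ tau * φ tau = 1 := by rw [← map_mul, show tau * tau = 1 by decide, map_one]
  have hu : (φ tl).s = false := aut_base φ rfl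
  obtain ⟨hr1, hr2⟩ := outer_relations _ hv hv2 _ h _ hu
  have hu2 : φ tl * φ tl = 1 := by rw [← map_mul, show tl * tl = 1 by decide, map_one]
  obtain ⟨hu', hz⟩ := trivial_images _ h _ hu hu2
    (fun e => absurd (φ.injective (a₁ := sl * tl) (a₂ := tl * sl) (by simpa using e)) (by decide))
    (hr1.1 (by simp only [← map_mul]; exact congrArg φ (by decide)))
    (hr2.1 (by simp only [← map_mul]; exact congrArg φ (by decide)))
  obtain ⟨hs', ht'⟩ := outer_conj _ hv hv2 _ h _ hu'
  simp only [← map_mul, tau_conj.1, tau_conj.2] at hs' ht'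
  refine ⟨?_, fun w hw => ?_⟩
  · have e1 := congrArg φ zl_eq
    simp only [map_mul, map_inv] at e1
    rw [← e1, hz]
  · obtain ⟨i, j, k, l, rfl⟩ := base_words w hw
    have b1 : ∀ (x : WreathDih) (m : ℕ), x.s = false → (x ^ m).s = false :=
      fun x m hx => mem_baseSub.1 (pow_mem (mem_baseSub.2 hx) m)
    have bm : ∀ x y : WreathDih, x.s = false → y.s = false → (x * y).s = false :=
      fun x y hx hy => mem_baseSub.1 (mul_mem (mem_baseSub.2 hx) (mem_baseSub.2 hy))
    refine aut_congr_mul φ (bm _ _ (bm _ _ (b1 _ _ rfl) (b1 _ _ rfl)) (b1 _ _ rfl))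
      (aut_congr_mul φ (bm _ _ (b1 _ _ rfl) (b1 _ _ rfl))
        (aut_congr_mul φ (b1 _ _ rfl) (aut_congr_pow φ rfl h _)
          (aut_congr_pow φ rfl (aut_congr_mul φ rfl h hu') _))
        (aut_congr_pow φ rfl hs' _))
      (aut_congr_pow φ rfl (aut_congr_mul φ rfl hs' ht') _)

end WreathDih

open WreathDih

theorem card_le_of_exponent_two {G : Type*} [Group G] [Finite G] {k : ℕ}
    (hr : Cfsg.SectionalPRankLE 2 k G) (M : Subgroup G) (Z : Subgroup ↥M) [Z.Normal]
    (h : ∀ m : ↥M, m * m ∈ Z) : Nat.card (↥M ⧸ Z) ≤ 2 ^ k := by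
  have hx : ∀ x : ↥M ⧸ Z, x * x = 1 := by
    intro x
    obtain ⟨m, rfl⟩ := QuotientGroup.mk'_surjective Z x
    rw [← map_mul]
    exact (QuotientGroup.eq_one_iff _).2 (h m)
  have h' := pRankLE_of_section hr M (QuotientGroup.mk' Z) (QuotientGroup.mk'_surjective Z) ⊤
    ⟨⟨fun a b => by
      have e1 := inv_eq_of_mul_eq_one_right (hx (a * b))
      rw [mul_inv_rev, inv_eq_of_mul_eq_one_right (hx a), inv_eq_of_mul_eq_one_right (hx b)] at e1
      exact Subtype.ext e1.symm⟩⟩
    (fun a _ => by rw [pow_two]; exact hx a)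
  rwa [Subgroup.card_top] at h'

section main

variable {S : Type*} [Group S] [Finite S] (f : WreathDih →* S)

theorem f_injective_comm {hf : Function.Injective f} {u v : WreathDih} :
    f u * f v = f v * f u ↔ u * v = v * u := by rw [← map_mul, ← map_mul, hf.eq_iff]

theorem centralizer_base_le (h2 : IsPGroup 2 S) (hr : Cfsg.SectionalPRankLE 2 4 S)
    (hf : Function.Injective f) :
    Subgroup.centralizer ((baseSub.map f : Subgroup S) : Set S) ≤ baseSub.map f := by
  have hsup : leftSub.map f ⊔ rightSub.map f = baseSub.map f := by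
    rw [← Subgroup.map_sup]
    congr 1
    refine le_antisymm (sup_le (fun w hw => hw.1) fun w hw => hw.1) fun w hw => ?_
    rw [base_split w hw]
    exact Subgroup.mul_mem_sup ⟨rfl, rfl⟩ ⟨rfl, rfl⟩
  have hnc : ∀ (X : Subgroup WreathDih) (a b : WreathDih), a ∈ X → b ∈ X → a * b ≠ b * a →
      ¬ IsMulCommutative ↥(X.map f) := by
    intro X a b ha hb hne hc
    exact hne (hf (by
      have := congrArg Subtype.val
        (hc.is_comm.comm ⟨f a, Subgroup.mem_map_of_mem f ha⟩ ⟨f b, Subgroup.mem_map_of_mem f hb⟩)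
      simpa using this))
  have hcm : ∀ (X : Subgroup WreathDih) (a b : WreathDih), a ∈ X → b ∈ X →
      f (a * b * a⁻¹ * b⁻¹) ∈ ⁅X.map f, X.map f⁆ := by
    intro X a b ha hb
    have := Subgroup.commutator_mem_commutator (Subgroup.mem_map_of_mem f ha)
      (Subgroup.mem_map_of_mem f hb) (H₁ := X.map f) (H₂ := X.map f)
    rw [commutatorElement_def] at this
    simpa using this
  have d1 : ∀ w : WreathDih, w.s = false → w.r = 1 → w * sl = sl * w → w * tl = tl * w →
      w = 1 ∨ w = zl := by decide +kernel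
  have d2 : ∀ w : WreathDih, w.s = false → w.l = 1 → w * sr' = sr' * w → w * tr' = tr' * w →
      w = 1 ∨ w = zr := by decide +kernel
  have d3 : ∀ w : WreathDih, w.s = false → w.r = 1 → ∀ v : WreathDih, v.s = false → v.l = 1 →
      w * v = v * w := by decide +kernel
  rw [← hsup]
  refine centralizer_pair_le h2 hr (hnc leftSub sl tl ⟨rfl, rfl⟩ ⟨rfl, rfl⟩ (by decide))
    (hnc rightSub sr' tr' ⟨rfl, rfl⟩ ⟨rfl, rfl⟩ (by decide)) ?_ ?_
    (z := f zl) (z' := f zr) ?_ ?_ ?_ ?_
  · rw [← Subgroup.map_inf _ _ f hf, Subgroup.map_eq_bot_iff_of_injective _ hf, eq_bot_iff]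
    rintro ⟨a, b, i⟩ ⟨⟨h1, h2⟩, ⟨-, h3⟩⟩
    simp only at h1 h2 h3
    subst h1 h2 h3
    exact Subgroup.mem_bot.2 rfl
  · rintro _ ⟨a, ha, rfl⟩ _ ⟨b, hb, rfl⟩
    rw [← map_mul, ← map_mul, d3 a ha.1 ha.2 b hb.1 hb.2]
  · rw [← zl_eq]
    exact hcm leftSub tl sl ⟨rfl, rfl⟩ ⟨rfl, rfl⟩
  · rw [show zr = tr' * sr' * tr'⁻¹ * sr'⁻¹ by decide]
    exact hcm rightSub tr' sr' ⟨rfl, rfl⟩ ⟨rfl, rfl⟩
  · rintro _ ⟨a, ha, rfl⟩ hc
    rcases d1 a ha.1 ha.2
      (hf (by simpa using (hc _ (Subgroup.mem_map_of_mem f (show sl ∈ leftSub from ⟨rfl, rfl⟩))).symm))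
      (hf (by simpa using (hc _ (Subgroup.mem_map_of_mem f (show tl ∈ leftSub from ⟨rfl, rfl⟩))).symm))
      with h | h <;> rw [h]
    · exact .inl (map_one f)
    · exact .inr rfl
  · rintro _ ⟨a, ha, rfl⟩ hc
    rcases d2 a ha.1 ha.2
      (hf (by simpa using (hc _ (Subgroup.mem_map_of_mem f (show sr' ∈ rightSub from ⟨rfl, rfl⟩))).symm))
      (hf (by simpa using (hc _ (Subgroup.mem_map_of_mem f (show tr' ∈ rightSub from ⟨rfl, rfl⟩))).symm))
      with h | h <;> rw [h]
    · exact .inl (map_one f)
    · exact .inr rfl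

/-- The conclusion about a proper two-group overgroup of `D₈ ≀ C₂`. -/
theorem wreath_extend (h2 : IsPGroup 2 S) (hr : Cfsg.SectionalPRankLE 2 4 S)
    (hf : Function.Injective f) (hlt : f.range ≠ ⊤) :
    Subgroup.center S = Subgroup.zpowers (f zc) ∧
    f.range.relIndex (Subgroup.normalizer (f.range : Set S)) = 2 ∧
    (∃ Φ : ↥(Subgroup.normalizer (f.range : Set S)) →* Equiv.Perm (Fin 8),
      Φ.ker = (Subgroup.center S).subgroupOf (Subgroup.normalizer (f.range : Set S)) ∧
      Nat.card Φ.range = 128) ∧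
    ∀ V : Subgroup S, V ≤ f.range → (∀ g ∈ f.range, ∀ v ∈ V, g * v * g⁻¹ ∈ V) →
      (∀ a ∈ V, ∀ b ∈ V, a * b = b * a) → (∀ a ∈ V, a * a = 1) → Nat.card V = 16 →
      Subgroup.normalizer (V : Set S) = f.range := by
  classical
  haveI : Fact (Nat.Prime 2) := ⟨Nat.prime_two⟩
  set P := f.range with hP
  set K := baseSub.map f with hK
  have hKP : K ≤ P := Subgroup.map_le_range f _
  have hCK := centralizer_base_le f h2 hr hf
  rw [← hK] at hCK
  -- the centraliser of `P`
  have hCP : ∀ g : S, (∀ w, f w * g = g * f w) → g = 1 ∨ g = f zc := by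
    intro g hg
    obtain ⟨a, ha, rfl⟩ := hCK (Subgroup.mem_centralizer_iff.2 fun x hx => by
      obtain ⟨w, -, rfl⟩ := hx
      exact hg w)
    rcases center_cases a (fun v => hf (by simpa using hg v)) with rfl | rfl
    · exact .inl (map_one f)
    · exact .inr rfl
  have hzc1 : f zc ≠ 1 := fun h => absurd (hf (h.trans (map_one f).symm)) (by decide)
  have hzord : orderOf (f zc) = 2 := orderOf_eq_prime
    (by rw [pow_two, ← map_mul, show zc * zc = 1 by decide, map_one]) hzc1
  -- the centre
  have hcen : Subgroup.center S = Subgroup.zpowers (f zc) := by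
    haveI : Nontrivial S := ⟨f zc, 1, hzc1⟩
    haveI := h2.center_nontrivial
    have hle : Subgroup.center S ≤ Subgroup.zpowers (f zc) := by
      intro g hg
      rcases hCP g (fun w => Subgroup.mem_center_iff.1 hg (f w)) with rfl | rfl
      · exact one_mem _
      · exact Subgroup.mem_zpowers _
    refine Subgroup.eq_of_le_of_card_ge hle ?_
    rw [Nat.card_zpowers, hzord]
    exact Finite.one_lt_card
  set N := Subgroup.normalizer (P : Set S) with hN
  have hPN : P ≤ N := Subgroup.le_normalizer
  let e : WreathDih ≃* ↥P := MonoidHom.ofInjective hf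
  let Θ : ↥N →* MulAut WreathDih :=
    (MulAut.congr e.symm).toMonoidHom.comp P.normalizerMonoidHom
  have hΘ : ∀ (n : ↥N) (w : WreathDih), f (Θ n w) = (n : S) * f w * (n : S)⁻¹ := by
    intro n w
    show f (e.symm (P.normalizerMonoidHom n (e w))) = _
    rw [show f (e.symm (P.normalizerMonoidHom n (e w))) =
      ((e (e.symm (P.normalizerMonoidHom n (e w))) : ↥P) : S) from rfl, MulEquiv.apply_symm_apply]
    rfl
  have hΘmul : ∀ (n m : ↥N) (w : WreathDih), Θ (n * m) w = Θ n (Θ m w) := fun n m w => by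
    rw [map_mul]; rfl
  have hΘf : ∀ (u w : WreathDih) (hu : f u ∈ N), Θ ⟨f u, hu⟩ w = u * w * u⁻¹ := fun u w hu =>
    hf (by rw [hΘ, map_mul, map_mul, map_inv])
  -- elements acting trivially on the base modulo its centre lie in the base
  have hZfix : ∀ φ : MulAut WreathDih, φ zl = zl → ∀ u, InZ u → φ u = u := by
    intro φ h u hu
    have hzr : φ zr = zr := by
      rw [show zr = zl * zc by decide, map_mul, h, aut_zc]
    rcases hu with rfl | rfl | rfl | rfl
    · exact map_one φ
    · exact h
    · exact hzr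
    · exact aut_zc φ
  have hbot : ∀ n : ↥N, InZ (Θ n sl * sl⁻¹) → (n : S) ∈ K := by
    intro n hn
    by_contra hnK
    obtain ⟨k, hk⟩ : ∃ k, (n : S) ^ 2 ^ k ∈ K := by
      obtain ⟨k, hk⟩ := h2 (n : S)
      exact ⟨k, hk ▸ one_mem _⟩
    have hex : ∃ i, (n : S) ^ 2 ^ i ∈ K := ⟨k, hk⟩
    obtain ⟨i, hi⟩ : ∃ i, Nat.find hex = i + 1 := ⟨Nat.find hex - 1, by
      have : Nat.find hex ≠ 0 := fun h => hnK (by simpa [h] using Nat.find_spec hex)
      omega⟩
    set x : ↥N := n ^ 2 ^ i with hx
    have hxK : (x : S) ∉ K := by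
      rw [hx, Subgroup.coe_pow]; exact Nat.find_min hex (by omega)
    have hxxK : (x : S) * x ∈ K := by
      rw [hx, Subgroup.coe_pow, ← pow_add, ← two_mul, ← pow_succ', ← hi]
      exact Nat.find_spec hex
    have hxact : ∀ m : ℕ, InZ (Θ (n ^ m) sl * sl⁻¹) := by
      intro m
      induction m with
      | zero =>
        rw [pow_zero, map_one, MulAut.one_apply, mul_inv_cancel]
        exact .inl rfl
      | succ m ih =>
        rw [pow_succ', hΘmul]
        have h1 := aut_inZ (Θ n) ih
        rw [map_mul, map_inv] at h1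
        have h3 := inZ_mul _ h1 _ hn
        rwa [mul_assoc, ← mul_assoc (Θ n sl)⁻¹, inv_mul_cancel, one_mul] at h3
    obtain ⟨hzl, htr⟩ := aut_trivial (Θ x) (hxact (2 ^ i))
    have hfix := hZfix _ hzl
    have hsqfix : ∀ w : WreathDih, w.s = false → Θ (x * x) w = w := by
      intro w hw
      have h1 := htr w hw
      have e1 : Θ x w = Θ x w * w⁻¹ * w := by group
      rw [hΘmul]
      calc Θ x (Θ x w) = Θ x (Θ x w * w⁻¹ * w) := by rw [← e1]
        _ = Θ x w * w⁻¹ * (Θ x w) := by rw [map_mul, hfix _ h1]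
        _ = (Θ x w * w⁻¹) * (Θ x w * w⁻¹) * w := by group
        _ = w := by rw [inZ_sq _ h1, one_mul]
    obtain ⟨a, ha, hax⟩ := hxxK
    have haZ : InZ a := by
      have key : ∀ w : WreathDih, w.s = false → a * w = w * a := by
        intro w hw
        refine hf ?_
        have h1 := hΘ (x * x) w
        rw [hsqfix w hw, Subgroup.coe_mul, ← hax] at h1
        rw [map_mul, map_mul]
        conv_rhs => rw [h1]
        group
      exact center_base a ha (key sl rfl).symm (key tl rfl).symm (key sr' rfl).symm (key tr' rfl).symm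
    let M : Subgroup S :=
      { carrier := {g | g ∈ K ∨ g * (x : S)⁻¹ ∈ K}
        one_mem' := .inl (one_mem _)
        mul_mem' := by
          have hconj : ∀ g ∈ K, (x : S) * g * (x : S)⁻¹ ∈ K := by
            rintro _ ⟨w, hw, rfl⟩
            exact ⟨Θ x w, aut_base _ hw, hΘ x w⟩
          rintro g h (hg | hg) (hh | hh)
          · exact .inl (mul_mem hg hh)
          · exact .inr (by rw [mul_assoc]; exact mul_mem hg hh)
          · refine .inr ?_
            have := mul_mem hg (hconj h hh)
            simpa [mul_assoc] using this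
          · refine .inl ?_
            have := mul_mem (mul_mem hg (hconj _ hh)) ⟨a, ha, hax⟩
            simpa [mul_assoc] using this
        inv_mem' := by
          have hconj' : ∀ g ∈ K, (x : S)⁻¹ * g * (x : S) ∈ K := by
            rintro _ ⟨w, hw, rfl⟩
            refine ⟨Θ x⁻¹ w, aut_base _ hw, ?_⟩
            rw [hΘ]; simp
          rintro g (hg | hg)
          · exact .inl (inv_mem hg)
          · refine .inr ?_
            have := mul_mem (hconj' _ (inv_mem hg)) (inv_mem (show (x : S) * x ∈ K from ⟨a, ha, hax⟩))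
            convert this using 1
            group }
    let Zs : Subgroup S :=
      { carrier := {g | ∃ w, InZ w ∧ f w = g}
        one_mem' := ⟨1, .inl rfl, map_one f⟩
        mul_mem' := by
          rintro g h ⟨u, hu, rfl⟩ ⟨v, hv, rfl⟩
          exact ⟨u * v, inZ_mul u hu v hv, map_mul f u v⟩
        inv_mem' := by
          rintro g ⟨u, hu, rfl⟩
          exact ⟨u⁻¹, inZ_inv u hu, map_inv f u⟩ }
    haveI : (Zs.subgroupOf M).Normal := ⟨by
      rintro g ⟨u, hu, hug⟩ ⟨m, hm | hm⟩
      · obtain ⟨w, hw, rfl⟩ := hm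
        refine ⟨w * u * w⁻¹, inZ_conj u hu w, ?_⟩
        simp [hug]
      · obtain ⟨w, hw, hwm⟩ := hm
        refine ⟨w * u * w⁻¹, inZ_conj u hu w, ?_⟩
        have e1 := hΘ x u
        rw [hfix u hu] at e1
        show f (w * u * w⁻¹) = m * (g : S) * m⁻¹
        rw [map_mul, map_mul, map_inv, hwm, show (g : S) = f u from hug.symm]
        calc m * (x : S)⁻¹ * f u * (m * (x : S)⁻¹)⁻¹
            = m * ((x : S)⁻¹ * f u * (x : S)) * m⁻¹ := by group
          _ = _ := by conv_lhs => rw [e1]
                      group⟩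
    have hle := card_le_of_exponent_two hr M (Zs.subgroupOf M) (by
      rintro ⟨m, hm | hm⟩
      · obtain ⟨w, hw, rfl⟩ := hm
        exact ⟨w * w, base_sq w hw, map_mul f w w⟩
      · obtain ⟨w, hw, hwm⟩ := hm
        have h1 := htr w hw
        refine ⟨w * w * (Θ x w * w⁻¹) * a, inZ_mul _ (inZ_mul _ (base_sq w hw) _ h1) _ haZ, ?_⟩
        show _ = m * m
        rw [inZ_comm _ h1 (w * w) (mem_baseSub.1 (mul_mem (mem_baseSub.2 hw) (mem_baseSub.2 hw)))]
        rw [show Θ x w * w⁻¹ * (w * w) * a = Θ x w * w * a by group]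
        have hc : Θ x w * w = w * Θ x w := by
          calc Θ x w * w = (Θ x w * w⁻¹) * w * w := by group
            _ = w * (Θ x w * w⁻¹) * w := by rw [← inZ_comm _ h1 w hw]
            _ = _ := by group
        rw [hc, map_mul, map_mul, hΘ, hax, hwm]
        group)
    have hcard : Nat.card (↥M ⧸ Zs.subgroupOf M) = 32 := by
      have hM : Nat.card M = 128 := by
        have hKM : K ≤ M := fun g hg => .inl hg
        rw [← Subgroup.index_mul_card (K.subgroupOf M),
          Nat.card_congr (Subgroup.subgroupOfEquivOfLe hKM).toEquiv, hK,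
          Subgroup.card_map_of_injective hf, card_baseSub]
        rw [show (K.subgroupOf M).index = 2 from ?_]
        rw [Subgroup.index_eq_two_iff]
        refine ⟨⟨(x : S)⁻¹, M.inv_mem (.inr (by rw [mul_inv_cancel]; exact one_mem _))⟩, fun b => ?_⟩
        simp only [Subgroup.mem_subgroupOf, Subgroup.coe_mul]
        by_cases hb : (b : S) ∈ K
        · exact .inr ⟨hb, fun h => hxK (inv_mem_iff.1 (by simpa using mul_mem (inv_mem hb) h))⟩
        · exact .inl ⟨b.2.resolve_left hb, hb⟩
      have hZ4 : Nat.card Zs = 4 := by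
        rw [← inZ_card, ← Set.ncard_coe_finset, ← SetLike.coe_sort_coe, Nat.card_coe_set_eq,
          show ((Zs : Subgroup S) : Set S) = f '' {w | InZ w} by ext; simp [Zs],
          Set.ncard_image_of_injective _ hf]
        congr 1; ext w; simp
      have hZM : Zs ≤ M := by
        rintro _ ⟨w, hw, rfl⟩
        exact .inl (Subgroup.mem_map_of_mem f (inZ_base w hw))
      have := Subgroup.card_eq_card_quotient_mul_card_subgroup (Zs.subgroupOf M)
      rw [Nat.card_congr (Subgroup.subgroupOfEquivOfLe hZM).toEquiv, hZ4, hM] at this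
      omega
    omega
  -- the class of the image of a reflection
  choose q hq using fun n : ↥N => aut_class (Θ n)
  have hqinj : ∀ (n m : ↥N) (i : Fin 4), InZ (Θ n sl * (cls i)⁻¹) → InZ (Θ m sl * (cls i)⁻¹) →
      ((m⁻¹ * n : ↥N) : S) ∈ K := by
    intro n m i hn hm
    refine hbot _ ?_
    have h1 : InZ ((Θ n sl * (cls i)⁻¹) * (Θ m sl * (cls i)⁻¹)⁻¹) := inZ_mul _ hn _ (inZ_inv _ hm)
    have h2 := aut_inZ (Θ m⁻¹) h1
    rw [show Θ n sl * (cls i)⁻¹ * (Θ m sl * (cls i)⁻¹)⁻¹ = Θ n sl * (Θ m sl)⁻¹ by group,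
      map_mul, map_inv (Θ m⁻¹), ← hΘmul, ← hΘmul, inv_mul_cancel, map_one, MulAut.one_apply] at h2
    exact h2
  have hPeq : ∀ (w : WreathDih), f w ∈ N := fun w => hPN ⟨w, rfl⟩
  have hout : ∀ n : ↥N, (n : S) ∉ P →
      InZ (Θ n sl * tl⁻¹) ∨ InZ (Θ n sl * tr'⁻¹) := by
    intro n hn
    have h1 := hq n
    have key : ∀ w : WreathDih, InZ (w * sl * w⁻¹ * (cls (q n))⁻¹) → False := by
      intro w hw
      have h2 := hqinj n ⟨f w, hPeq w⟩ (q n) h1 (by rwa [hΘf])
      apply hn
      have := mul_mem (show f w ∈ P from ⟨w, rfl⟩) (hKP h2)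
      simpa using this
    generalize q n = i at h1 key
    fin_cases i
    · exact absurd (key 1 (by decide)) id
    · exact absurd (key tau (by decide)) id
    · exact .inl h1
    · exact .inr h1
  -- index two
  have hidx : P.relIndex N = 2 := by
    have h4 : K.relIndex N ≤ 4 := by
      rw [Subgroup.relIndex, Subgroup.index_eq_card, ← Nat.card_fin 4]
      refine Nat.card_le_card_of_injective (fun c => q c.out) fun c d hcd => ?_
      have h1 := hqinj c.out d.out (q c.out) (hq _) (by rw [show q c.out = q d.out from hcd]; exact hq _)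
      rw [← Quotient.out_eq c, ← Quotient.out_eq d]
      refine (QuotientGroup.eq.2 ?_).symm
      exact h1
    have h5 := Subgroup.relIndex_mul_relIndex K P N hKP hPN
    have h6 : K.relIndex P = 2 := by
      have := Subgroup.card_mul_index (K.subgroupOf P)
      rw [Nat.card_congr (Subgroup.subgroupOfEquivOfLe hKP).toEquiv, hK,
        Subgroup.card_map_of_injective hf, card_baseSub, ← hK,
        ← Nat.card_congr e.toEquiv, card_eq] at this
      rw [Subgroup.relIndex]
      omega
    have h7 : P < N := by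
      haveI : Group.IsNilpotent S := h2.isNilpotent
      exact Group.normalizerCondition_of_isNilpotent P (lt_top_iff_ne_top.2 hlt)
    have h8 : P.relIndex N ≠ 1 := fun h => h7.not_ge (Subgroup.relIndex_eq_one.1 h)
    have h9 : P.relIndex N ≠ 0 := Subgroup.index_ne_zero_of_finite
    rw [h6] at h5
    omega
  refine ⟨hcen, hidx, ?_, ?_⟩
  · -- the action on the eight outer involutions
    let T := {v : WreathDih // v.s = true ∧ v * v = 1}
    have hT8 : Fintype.card T = Fintype.card (Fin 8) := by
      rw [Fintype.card_subtype, outer_involutions, Fintype.card_fin]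
    have hTmem : ∀ (n : ↥N) (v : T), (Θ n v.1).s = true ∧ Θ n v.1 * Θ n v.1 = 1 := fun n v =>
      ⟨aut_outer _ v.2.1, by rw [← map_mul, v.2.2, map_one]⟩
    let act : ↥N →* Equiv.Perm T :=
      { toFun := fun n =>
          { toFun := fun v => ⟨Θ n v.1, hTmem n v⟩
            invFun := fun v => ⟨Θ n⁻¹ v.1, hTmem n⁻¹ v⟩
            left_inv := fun v => Subtype.ext (by
              show Θ n⁻¹ (Θ n v.1) = v.1
              rw [← hΘmul, inv_mul_cancel, map_one]; rfl)
            right_inv := fun v => Subtype.ext (by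
              show Θ n (Θ n⁻¹ v.1) = v.1
              rw [← hΘmul, mul_inv_cancel, map_one]; rfl) }
        map_one' := by ext v; show Θ 1 v.1 = v.1; rw [map_one]; rfl
        map_mul' := fun n m => by ext v; exact hΘmul n m v.1 }
    let Φ := (Fintype.equivOfCardEq hT8).permCongrHom.toMonoidHom.comp act
    have hΦ : Φ.ker = (Subgroup.center S).subgroupOf N := by
      ext n
      rw [MonoidHom.mem_ker, Subgroup.mem_subgroupOf]
      constructor
      · intro h
        have hact : act n = 1 :=
          (MulEquiv.map_eq_one_iff (Fintype.equivOfCardEq hT8).permCongrHom).1 h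
        have hfix : ∀ v : WreathDih, v.s = true → v * v = 1 → Θ n v = v := fun v hv hv2 => by
          have := congrArg Subtype.val (DFunLike.congr_fun hact (⟨v, hv, hv2⟩ : T))
          exact this
        have hnP : (n : S) ∈ P := by
          by_contra hnP
          have ha := hout n hnP
          obtain ⟨-, -, hb⟩ := t_class _ ha
          have e1 : Θ n (tau * sl * tau) = Θ n tau * Θ n sl * Θ n tau := by rw [map_mul, map_mul]
          have hb' := hb (Θ n tau) (aut_outer _ rfl) (by rw [← map_mul, show tau * tau = 1 by decide, map_one])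
          rw [← e1, tau_conj.1] at hb'
          refine diag_not_fixed _ ha _ hb' ?_
          rw [← map_mul, show sl * sr' = sl * sr' * tau * tau by decide, map_mul,
            hfix _ sigma_sl.1 sigma_sl.2, hfix tau rfl (by decide)]
        obtain ⟨g, hg⟩ := hnP
        have h1 : ∀ v : WreathDih, v.s = true → v * v = 1 → g * v = v * g := fun v hv hv2 => by
          have h2 := hfix v hv hv2
          rw [show n = ⟨f g, hPeq g⟩ from Subtype.ext hg.symm, hΘf] at h2
          conv_rhs => rw [← h2]
          group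
        rw [← hg, hcen]
        rcases centralizes_outer g h1 with rfl | rfl
        · rw [map_one]; exact one_mem _
        · exact Subgroup.mem_zpowers _
      · intro h
        have : act n = 1 := by
          ext v
          show Θ n v.1 = v.1
          refine hf ?_
          rw [hΘ, ← Subgroup.mem_center_iff.1 h (f v.1)]
          group
        show _ = (1 : Equiv.Perm (Fin 8))
        rw [show Φ n = _ from rfl, MonoidHom.comp_apply, this, map_one]
    refine ⟨Φ, hΦ, ?_⟩
    have h1 := Subgroup.card_eq_card_quotient_mul_card_subgroup Φ.ker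
    rw [Nat.card_congr (QuotientGroup.quotientKerEquivRange Φ).toEquiv, hΦ,
      Nat.card_congr (Subgroup.subgroupOfEquivOfLe
        ((Subgroup.center_le_normalizer (s := (P : Set S))) : Subgroup.center S ≤ N)).toEquiv, hcen,
      Nat.card_zpowers, hzord] at h1
    have h2 := Subgroup.card_mul_index (P.subgroupOf N)
    rw [Nat.card_congr (Subgroup.subgroupOfEquivOfLe hPN).toEquiv, ← Subgroup.relIndex, hidx,
      ← Nat.card_congr e.toEquiv, card_eq] at h2
    omega
  · intro V hVP hVn hVc hV2 hV16
    refine le_antisymm ?_ fun g hg => Subgroup.mem_normalizer_iff.2 fun v => ?_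
    swap
    · refine ⟨hVn g hg v, fun hv => ?_⟩
      have := hVn g⁻¹ (inv_mem hg) _ hv
      simpa [mul_assoc] using this
    by_contra hnot
    have hPV : P ≤ Subgroup.normalizer (V : Set S) := fun g hg =>
      Subgroup.mem_normalizer_iff.2 fun v => ⟨hVn g hg v, fun hv => by
        have := hVn g⁻¹ (inv_mem hg) _ hv
        simpa [mul_assoc] using this⟩
    set Q := Subgroup.normalizer (V : Set S) with hQ
    obtain ⟨g, hgN, hgP⟩ : ∃ g : ↥N, (g : S) ∈ Q ∧ (g : S) ∉ P := by
      haveI : Group.IsNilpotent ↥Q := (h2.to_subgroup Q).isNilpotent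
      have hlt' : P.subgroupOf Q < ⊤ := lt_top_iff_ne_top.2 fun h =>
        hnot (Subgroup.subgroupOf_eq_top.1 h)
      obtain ⟨g, hg, hgP⟩ := SetLike.exists_of_lt (Group.normalizerCondition_of_isNilpotent _ hlt')
      refine ⟨⟨g, ?_⟩, g.2, fun h => hgP h⟩
      rw [hN, Subgroup.mem_normalizer_iff]
      intro v
      rw [Subgroup.mem_normalizer_iff] at hg
      constructor
      · intro hv
        exact (hg ⟨v, hPV hv⟩).1 hv
      · intro hv
        have hgv : v ∈ Q := by
          have := mul_mem (mul_mem (inv_mem g.2) (hPV hv)) g.2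
          simpa [mul_assoc] using this
        exact (hg ⟨v, hgv⟩).2 hv
    set V' := V.comap f with hV'
    have hV'inv : ∀ n : ↥N, (n : S) ∈ Q → ∀ v ∈ V', Θ n v ∈ V' := fun n hn v hv => by
      show f (Θ n v) ∈ V
      rw [hΘ]
      exact (Subgroup.mem_normalizer_iff.1 hn _).1 hv
    have hfour : ∀ v ∈ V', v.s = false ∧ v * v = 1 ∧
        ((v * sl = sl * v ∧ v * sr' = sr' * v) ∨ (v * tl = tl * v ∧ v * tr' = tr' * v)) := by
      intro v hv
      have h1 : v * v = 1 := hf (by rw [map_mul, map_one]; exact hV2 _ hv)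
      obtain ⟨h2, h3⟩ := fours v h1 fun g => hf (by
        have hg' : f g * f v * (f g)⁻¹ ∈ V := hVn _ ⟨g, rfl⟩ _ hv
        simpa using hVc _ hv _ hg')
      exact ⟨h2, h1, h3⟩
    have hcardV' : Nat.card V' = 16 := by
      rw [← hV16, ← Subgroup.card_map_of_injective (K := V') hf, hV', Subgroup.map_comap_eq_self hVP]
    have heq : ∀ (A : WreathDih → Prop) [DecidablePred A], (∀ v ∈ V', A v) →
        (Finset.univ.filter fun v => A v).card = 16 → ∀ v, A v → v ∈ V' := by
      intro A _ hA hcard v hv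
      have hsub : Finset.univ.filter (fun v => v ∈ V') ⊆ Finset.univ.filter fun v => A v :=
        fun u hu => Finset.mem_filter.2 ⟨Finset.mem_univ _, hA u (Finset.mem_filter.1 hu).2⟩
      have hc' : (Finset.univ.filter fun v => v ∈ V').card = 16 := by
        rw [← hcardV', Nat.card_eq_fintype_card, Fintype.card_subtype]
      have := Finset.eq_of_subset_of_card_le hsub (by rw [hcard, hc'])
      have h1 : v ∈ Finset.univ.filter fun v => A v := Finset.mem_filter.2 ⟨Finset.mem_univ _, hv⟩
      rw [← this] at h1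
      exact (Finset.mem_filter.1 h1).2
    by_cases hL : ∀ v ∈ V', InL v
    · have hsl : sl ∈ V' := heq InL hL card_inL sl sl_inL
      exact (t_class _ (hout g hgP)).2.1 (hL _ (hV'inv g hgN sl hsl))
    · push Not at hL
      obtain ⟨w, hw, hwL⟩ := hL
      have hR : ∀ v ∈ V', InR v := by
        intro v hv
        obtain ⟨h1, h2, h3⟩ := hfour v hv
        obtain ⟨w1, w2, w3⟩ := hfour w hw
        have hwR := w3.resolve_left fun h => hwL ⟨w1, w2, h⟩
        rcases h3 with h3 | h3
        swap
        · exact ⟨h1, h2, h3⟩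
        obtain ⟨p1, p2, p3⟩ := hfour _ (mul_mem hv hw)
        rcases p3 with p3 | p3
        · refine absurd ⟨w1, w2, ?_, ?_⟩ hwL
          · exact ((show Commute v sl from h3.1).inv_left.mul_left (show Commute (v * w) sl from p3.1)).eq |>
              fun e => by rwa [inv_mul_cancel_left] at e
          · exact ((show Commute v sr' from h3.2).inv_left.mul_left (show Commute (v * w) sr' from p3.2)).eq |>
              fun e => by rwa [inv_mul_cancel_left] at e
        · refine ⟨h1, h2, ?_, ?_⟩
          · exact ((show Commute (v * w) tl from p3.1).mul_left (show Commute w tl from hwR.1).inv_left).eq |>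
              fun e => by rwa [mul_inv_cancel_right] at e
          · exact ((show Commute (v * w) tr' from p3.2).mul_left (show Commute w tr' from hwR.2).inv_left).eq |>
              fun e => by rwa [mul_inv_cancel_right] at e
      have hgi : ((g⁻¹ : ↥N) : S) ∉ P := fun h => hgP (inv_mem_iff.1 h)
      have ha := heq InR hR card_inR _ (t_class _ (hout g⁻¹ hgi)).1
      have h1 := hV'inv g hgN _ ha
      rw [← hΘmul, mul_inv_cancel, map_one, MulAut.one_apply] at h1
      exact sl_not_inR (hR sl h1)

end main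

end CfsgLib.TwoGroups85
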